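import Groth.Agent.AlgzApx.Point

/-!
# An algebra with coordinates whose truncations are those of power series
-/

set_option autoImplicit false

universe u

open IsLocalRing MvPowerSeries

set_option backward.isDefEq.respectTransparency false

namespace Groth.Agent.AlgzApx

variable {k : Type u} [Field k] {d : ℕ} {A : Type u} [CommRing A] [Algebra k A]

local notation "𝔪" => maximalIdeal (MvPowerSeries (Fin d) k)

theorem le_span_sup_pow {m : Ideal A} {s : Set A} (hs : Ideal.span s ≤ m) (h : m ≤ Ideal.span s ⊔ m ^ 2) (n : ℕ) :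
    m ≤ Ideal.span s ⊔ m ^ (n + 1) := by
  induction n with
  | zero => rw [zero_add, pow_one]; exact le_sup_right
  | succ n ih =>
    refine h.trans (sup_le le_sup_left ?_)
    calc m ^ 2 ≤ m * (Ideal.span s ⊔ m ^ (n + 1)) := by rw [pow_two]; exact Ideal.mul_mono le_rfl ih
      _ ≤ Ideal.span s ⊔ m ^ (n + 1 + 1) := by
        rw [Ideal.mul_sup, pow_succ' m (n + 1)]
        exact sup_le_sup Ideal.mul_le_right le_rfl

/-- hypotheses: coordinates in a rational maximal ideal generating it modulo its square -/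
structure Coord (h : A →ₐ[k] MvPowerSeries (Fin d) k) (x : Fin d → A) : Prop where
  map_x : ∀ i, h (x i) = X i
  span_le : Ideal.comap h 𝔪 ≤ Ideal.span (Set.range x) ⊔ Ideal.comap h 𝔪 ^ 2

variable {h : A →ₐ[k] MvPowerSeries (Fin d) k} {x : Fin d → A}

theorem Coord.x_mem (hc : Coord h x) (i : Fin d) : x i ∈ Ideal.comap h 𝔪 := by
  show h (x i) ∈ 𝔪
  rw [hc.map_x]; exact X_mem i


theorem sub_const_mem (h : A →ₐ[k] MvPowerSeries (Fin d) k) (a : A) :
    a - algebraMap k A (constantCoeff (h a)) ∈ Ideal.comap h 𝔪 := by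
  show h (a - algebraMap k A (constantCoeff (h a))) ∈ 𝔪
  rw [mem_max_iff]
  simp [MvPowerSeries.algebraMap_apply]

theorem Coord.exists_step (hc : Coord h x) (n : ℕ) (a : A) :
    ∃ b : Fin d → A, a - (algebraMap k A (constantCoeff (h a)) + ∑ i, b i * x i) ∈ Ideal.comap h 𝔪 ^ (n + 1) := by
  obtain ⟨y, hy, t, ht, e⟩ := Submodule.mem_sup.1 (le_span_sup_pow
    (Ideal.span_le.2 (Set.range_subset_iff.2 hc.x_mem)) hc.span_le n (sub_const_mem h a))
  obtain ⟨b, rfl⟩ := Ideal.mem_span_range_iff_exists_fun.1 hy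
  exact ⟨b, by rw [← sub_sub, ← e, add_sub_cancel_left]; exact ht⟩

theorem Coord.exists_poly (hc : Coord h x) (n : ℕ) :
    ∀ a : A, ∃ p : MvPolynomial (Fin d) k, a - MvPolynomial.aeval x p ∈ Ideal.comap h 𝔪 ^ n := by
  induction n with
  | zero => exact fun a => ⟨0, by simp⟩
  | succ n ih =>
    intro a
    obtain ⟨b, hb⟩ := hc.exists_step n a
    choose p hp using fun i => ih (b i)
    refine ⟨MvPolynomial.C (constantCoeff (h a)) + ∑ i, p i * MvPolynomial.X i, ?_⟩
    have e : a - MvPolynomial.aeval x (MvPolynomial.C (constantCoeff (h a)) + ∑ i, p i * MvPolynomial.X i) =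
        (a - (algebraMap k A (constantCoeff (h a)) + ∑ i, b i * x i)) +
          ∑ i, (b i - MvPolynomial.aeval x (p i)) * x i := by
      simp only [map_add, map_sum, MvPolynomial.aeval_C, map_mul, MvPolynomial.aeval_X, sub_mul,
        Finset.sum_sub_distrib]
      ring
    rw [e]
    refine add_mem hb (sum_mem fun i _ => ?_)
    rw [pow_succ]
    exact Ideal.mul_mem_mul (hp i) (hc.x_mem i)


theorem map_pow_le (h : A →ₐ[k] MvPowerSeries (Fin d) k) {n : ℕ} {a : A}
    (ha : a ∈ Ideal.comap h 𝔪 ^ n) : h a ∈ 𝔪 ^ n :=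
  Ideal.pow_right_mono Ideal.map_comap_le n ((Ideal.map_pow h (Ideal.comap h 𝔪) n).le (Ideal.mem_map_of_mem h ha))

theorem Coord.mem_pow (hc : Coord h x) {n : ℕ} {a : A} (ha : h a ∈ 𝔪 ^ n) : a ∈ Ideal.comap h 𝔪 ^ n := by
  obtain ⟨p, hp⟩ := hc.exists_poly n a
  let mA := Ideal.comap h 𝔪
  have hnil : ∀ i, IsNilpotent (Ideal.Quotient.mk (mA ^ n) (x i)) := fun i =>
    ⟨n, by rw [← map_pow, Ideal.Quotient.eq_zero_iff_mem]; exact Ideal.pow_mem_pow (hc.x_mem i) n⟩
  let θ : MvPowerSeries (Fin d) k →ₐ[k] A ⧸ mA ^ n := ArtPow.evalNil _ hnil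
  have hθm : Ideal.map θ 𝔪 ≤ mA.map (Ideal.Quotient.mk (mA ^ n)) := by
    rw [← ArtPow.span_X_eq_maximalIdeal, Ideal.map_span, Ideal.span_le]
    rintro _ ⟨_, ⟨i, rfl⟩, rfl⟩
    show θ (X i) ∈ _
    rw [ArtPow.evalNil_X]
    exact Ideal.mem_map_of_mem _ (hc.x_mem i)
  have hθ0 : ∀ z ∈ 𝔪 ^ n, θ z = 0 := fun z hz => by
    have h1 := Ideal.mem_map_of_mem θ hz
    rw [Ideal.map_pow] at h1
    have h2 := Ideal.pow_right_mono hθm n h1
    rwa [← Ideal.map_pow, Ideal.map_quotient_self, Ideal.mem_bot] at h2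
  have h3 : θ (h (MvPolynomial.aeval x p)) = Ideal.Quotient.mk (mA ^ n) (MvPolynomial.aeval x p) := by
    show ((θ.comp h).comp (MvPolynomial.aeval x)) p = ((Ideal.Quotient.mkₐ k (mA ^ n)).comp (MvPolynomial.aeval x)) p
    congr 1
    exact MvPolynomial.algHom_ext fun i => by simp [hc.map_x, θ]
  have h4 : h (MvPolynomial.aeval x p) ∈ 𝔪 ^ n := by
    have h5 := sub_mem ha (map_pow_le h hp)
    rwa [map_sub, sub_sub_cancel] at h5
  rw [hθ0 _ h4] at h3
  have := add_mem (Ideal.Quotient.eq_zero_iff_mem.1 h3.symm) hp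
  simpa using this

theorem Coord.exists_near (hc : Coord h x) (n : ℕ) (z : MvPowerSeries (Fin d) k) : ∃ a : A, z - h a ∈ 𝔪 ^ n := by
  obtain ⟨p, hp⟩ := exists_poly_near (k := k) (d := d) n z
  refine ⟨MvPolynomial.aeval x p, ?_⟩
  rw [MvPolynomial.comp_aeval_apply]
  simpa [hc.map_x] using hp

theorem Coord.finite_quotient (hc : Coord h x) (n : ℕ) : Module.Finite k (A ⧸ Ideal.comap h 𝔪 ^ n) := by
  classical
  let mA := Ideal.comap h 𝔪
  suffices key : ∀ m ≤ n, ∃ s : Finset A, ∀ a : A, ∃ b ∈ Submodule.span k (s : Set A), a - b ∈ mA ^ m by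
    obtain ⟨s, hs⟩ := key n le_rfl
    refine ⟨⟨s.image (Ideal.Quotient.mk (mA ^ n)), top_le_iff.1 fun q _ => ?_⟩⟩
    obtain ⟨a, rfl⟩ := Ideal.Quotient.mk_surjective q
    obtain ⟨b, hb, hab⟩ := hs a
    rw [Ideal.Quotient.eq.2 hab, Finset.coe_image]
    exact Submodule.apply_mem_span_image_of_mem_span (Ideal.Quotient.mkₐ k (mA ^ n)).toLinearMap hb
  intro m hm
  induction m with
  | zero => exact ⟨∅, fun a => ⟨0, zero_mem _, by simp⟩⟩
  | succ m ih =>
    obtain ⟨s, hs⟩ := ih (Nat.le_of_succ_le hm)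
    refine ⟨{1} ∪ (Finset.univ ×ˢ s).image (fun p => p.2 * x p.1), fun a => ?_⟩
    obtain ⟨b, hb⟩ := hc.exists_step m a
    choose c hc' hc'' using fun i => hs (b i)
    refine ⟨algebraMap k A (constantCoeff (h a)) + ∑ i, c i * x i, add_mem ?_ (sum_mem fun i _ => ?_), ?_⟩
    · rw [Algebra.algebraMap_eq_smul_one]
      exact Submodule.smul_mem _ _ (Submodule.subset_span (by simp))
    · have : c i * x i ∈ (Submodule.span k (s : Set A)).map (LinearMap.mulRight k (x i)) := ⟨c i, hc' i, rfl⟩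
      rw [Submodule.map_span] at this
      refine Submodule.span_mono ?_ this
      rintro _ ⟨y, hy, rfl⟩
      simp only [Finset.coe_union, Finset.coe_singleton, Finset.coe_image]
      exact Or.inr ⟨(i, y), by simpa using hy, rfl⟩
    · have e : a - (algebraMap k A (constantCoeff (h a)) + ∑ i, c i * x i) =
          (a - (algebraMap k A (constantCoeff (h a)) + ∑ i, b i * x i)) + ∑ i, (b i - c i) * x i := by
        simp only [sub_mul, Finset.sum_sub_distrib]; ring
      rw [e]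
      refine add_mem hb (sum_mem fun i _ => ?_)
      rw [pow_succ]
      exact Ideal.mul_mem_mul (hc'' i) (hc.x_mem i)

end Groth.Agent.AlgzApx
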