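import Groth.Agent.Desing.RegularField
import Groth.Agent.SerreReg.Descent
import Groth.Agent.GeomProp.SmoothRegular
import Groth.Agent.ArtObs.Models

/-!
# Maps to power series over a perfect field factor through smooth algebras
-/

set_option autoImplicit false

universe u

namespace Groth.Agent.AlgzApx

open Smoothing

variable {k : Type u} [Field k] [PerfectField k]

theorem exists_singRad_top {Λ : Type u} [CommRing Λ] [Algebra k Λ] [IsRegularLocalRing Λ] (I : Ideal Λ) :
    ∀ (A : Type u) [CommRing A] [Algebra k A] [Algebra.FinitePresentation k A] (φ : A →ₐ[k] Λ),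
      singRad k φ = I → ∃ (B : Type u) (_ : CommRing B) (_ : Algebra k B), Algebra.FinitePresentation k B ∧
        ∃ (g : A →ₐ[k] B) (h : B →ₐ[k] Λ), h.comp g = φ ∧ singRad k h = ⊤ := by
  induction I using (wellFounded_gt (α := Ideal Λ)).induction with
  | _ I ih =>
    intro A _ _ _ φ hφ
    by_cases hI : I = ⊤
    · exact ⟨A, inferInstance, inferInstance, inferInstance, AlgHom.id k A, φ, AlgHom.comp_id φ, hφ.trans hI⟩
    obtain ⟨q, hq⟩ := Ideal.nonempty_minimalPrimes hI
    haveI : q.IsPrime := hq.1.1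
    haveI := Groth.Agent.SerreReg.isRegularLocalRing_localization Λ q
    haveI : Algebra.IsGeometricallyReduced k q.ResidueField :=
      Groth.Agent.GeomProp.geomReduced_of_perfectField k q.ResidueField
    obtain ⟨B, _, _, hB, g, h, hgh, hle, hnle⟩ :=
      Groth.Agent.Desing.resolvable_regular_separable φ q (hφ.symm ▸ hq)
    have hlt : I < singRad k h := lt_of_le_of_ne (hφ ▸ hle) fun e => hnle (e ▸ hq.1.2)
    obtain ⟨C, _, _, hC, g', h', hg', htop⟩ := ih _ hlt B h rfl
    exact ⟨C, inferInstance, inferInstance, hC, g'.comp g, h', by rw [← AlgHom.comp_assoc, hg', hgh], htop⟩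

/-- factorisation through a smooth algebra -/
theorem exists_smooth_factor {Λ : Type u} [CommRing Λ] [Algebra k Λ] [IsRegularLocalRing Λ] (A : Type u) [CommRing A]
    [Algebra k A] [Algebra.FinitePresentation k A] (φ : A →ₐ[k] Λ) :
    ∃ (B : Type u) (_ : CommRing B) (_ : Algebra k B), Algebra.Smooth k B ∧
      ∃ (g : A →ₐ[k] B) (h : B →ₐ[k] Λ), h.comp g = φ := by
  obtain ⟨B, _, _, hB, g, h, hgh, htop⟩ := exists_singRad_top _ A φ rfl
  have hnle : ¬ (singularIdeal k B).map h ≤ IsLocalRing.maximalIdeal Λ := fun hle =>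
    (IsLocalRing.maximalIdeal.isMaximal Λ).ne_top (top_le_iff.1 (htop ▸
      (IsLocalRing.maximalIdeal.isMaximal Λ).isPrime.radical_le_iff.2 hle))
  rw [Ideal.map_le_iff_le_comap] at hnle
  obtain ⟨c, hc, hcu⟩ := SetLike.not_le_iff_exists.1 hnle
  have hu : IsUnit (h c) := IsLocalRing.notMem_maximalIdeal.1 hcu
  haveI : Algebra.Smooth k (Localization.Away c) :=
    Algebra.basicOpen_subset_smoothLocus_iff_smooth.mp (Desing.basicOpen_subset_of_mem_singularIdeal hc)
  let h' : Localization.Away c →ₐ[k] Λ := IsLocalization.liftAlgHom (M := Submonoid.powers c) (f := h) (fun y => by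
    obtain ⟨n, hn⟩ := y.2
    rw [← hn, map_pow]
    exact hu.pow n)
  refine ⟨Localization.Away c, inferInstance, inferInstance, inferInstance,
    (IsScalarTower.toAlgHom k B (Localization.Away c)).comp g, h', ?_⟩
  rw [← hgh]
  ext a
  exact IsLocalization.lift_eq _ (g a)

end Groth.Agent.AlgzApx
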