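import Groth.Prelude.Def_AssocGr
import Mathlib.Algebra.Category.CommAlgCat.Basic
import Mathlib.CategoryTheory.Limits.Types.Colimits
import Mathlib.RingTheory.FiniteType
import Mathlib.RingTheory.Adjoin.FG
import Mathlib.LinearAlgebra.Dimension.RankNullity
import Mathlib.LinearAlgebra.FiniteDimensional.Lemmas

/-!
# Associated graded rings seen from a common cover; elements over finitely generated subalgebras
-/

set_option autoImplicit false

universe u

open CategoryTheory CategoryTheory.Limits Polynomial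

set_option backward.isDefEq.respectTransparency false

namespace Groth.Agent.AlgzApx

variable {P R : Type u} [CommRing P] [CommRing R] (π : P →+* R) (m : Ideal P) (n' : Ideal R)

/-- the filtrations of `R` are covered modulo the next step -/
structure GrCover : Prop where
  map_le : ∀ n, ∀ a ∈ m ^ n, π a ∈ n' ^ n
  lift : ∀ n, ∀ c ∈ n' ^ n, ∃ a ∈ m ^ n, c - π a ∈ n' ^ (n + 1)

variable {π m n'}

theorem GrCover.exists_hom (hc : GrCover π m n') :
    ∃ Ψ : ↥(FiltBl.IdealFiltration.adic m).rees →+* AssocGr.GrRing (FiltBl.IdealFiltration.adic n'),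
      Function.Surjective Ψ ∧
      (∀ p, Ψ p = 0 ↔ ∀ n, π ((p : P[X]).coeff n) ∈ n' ^ (n + 1)) ∧
      (∀ n (a : (FiltBl.IdealFiltration.adic m).F n), Ψ (AssocGr.monom (FiltBl.IdealFiltration.adic m) n a) =
        (AssocGr.inDeg (FiltBl.IdealFiltration.adic n') n ⟨π a, hc.map_le n a a.2⟩ :
          AssocGr.GrRing (FiltBl.IdealFiltration.adic n'))) ∧
      ∀ a, Ψ (algebraMap P ↥(FiltBl.IdealFiltration.adic m).rees a) =
        algebraMap R (AssocGr.GrRing (FiltBl.IdealFiltration.adic n')) (π a) := by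
  let ι : ↥(FiltBl.IdealFiltration.adic m).rees →+* ↥(FiltBl.IdealFiltration.adic n').rees :=
    ((Polynomial.mapRingHom π).comp (FiltBl.IdealFiltration.adic m).rees.val.toRingHom).codRestrict
      (FiltBl.IdealFiltration.adic n').rees (fun p => by
        rw [AssocGr.mem_rees_iff]
        intro n
        show (Polynomial.map π (p : P[X])).coeff n ∈ _
        rw [coeff_map]
        exact hc.map_le n _ (p.2 n))
  have hι : ∀ p n, ((ι p : R[X])).coeff n = π ((p : P[X]).coeff n) := fun p n => by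
    show (Polynomial.map π (p : P[X])).coeff n = _
    rw [coeff_map]
  let Ψ := (AssocGr.mkG (FiltBl.IdealFiltration.adic n')).toRingHom.comp ι
  have hΨ : ∀ p, Ψ p = AssocGr.mkG (FiltBl.IdealFiltration.adic n') (ι p) := fun p => rfl
  refine ⟨Ψ, fun z => ?_, fun p => ?_, fun n a => ?_, fun a => ?_⟩
  · obtain ⟨c, rfl⟩ := AssocGr.mkG_surjective _ z
    choose a ha ha' using fun n => hc.lift n ((c : R[X]).coeff n) (c.2 n)
    let p : ↥(FiltBl.IdealFiltration.adic m).rees :=
      ∑ n ∈ (c : R[X]).support, (AssocGr.monom (FiltBl.IdealFiltration.adic m) n ⟨a n, ha n⟩ : _)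
    refine ⟨p, ?_⟩
    rw [hΨ, ← sub_eq_zero, ← map_sub, AssocGr.mkG_eq_zero_iff, AssocGr.mem_succIdeal_iff]
    intro n
    show ((ι p : R[X]) - (c : R[X])).coeff n ∈ n' ^ (n + 1)
    rw [coeff_sub, hι]
    have hp : (p : P[X]).coeff n = if n ∈ (c : R[X]).support then a n else 0 := by
      simp only [p, AddSubmonoidClass.coe_finsetSum, AssocGr.coe_coe_monom, finsetSum_coeff, coeff_monomial,
        Finset.sum_ite_eq']
    rw [hp]
    split_ifs with h
    · rw [← neg_sub]; exact neg_mem (ha' n)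
    · simp [Polynomial.notMem_support_iff.1 h]
  · rw [hΨ, AssocGr.mkG_eq_zero_iff, AssocGr.mem_succIdeal_iff]
    exact forall_congr' fun n => by rw [hι]; rfl
  · rw [hΨ, AssocGr.coe_inDeg]
    congr 1
    refine Subtype.ext (Polynomial.ext fun i => ?_)
    rw [hι, AssocGr.coe_coe_monom, AssocGr.coe_coe_monom, coeff_monomial, coeff_monomial]
    split_ifs <;> simp
  · rw [hΨ, ← AlgHom.commutes (AssocGr.mkG (FiltBl.IdealFiltration.adic n'))]
    congr 1
    refine Subtype.ext (Polynomial.ext fun i => ?_)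
    rw [hι]
    show π ((C a).coeff i) = (C (π a)).coeff i
    rw [coeff_C, coeff_C]
    split_ifs <;> simp

/-- equal leading kernels give isomorphic associated graded rings -/
theorem exists_gr_iso {R' : Type u} [CommRing R'] {π' : P →+* R'} {m₂ : Ideal R'} (h₁ : GrCover π m n')
    (h₂ : GrCover π' m m₂) (he : ∀ n, ∀ a ∈ m ^ n, π a ∈ n' ^ (n + 1) ↔ π' a ∈ m₂ ^ (n + 1)) :
    ∃ e : AssocGr.GrRing (FiltBl.IdealFiltration.adic n') ≃+* AssocGr.GrRing (FiltBl.IdealFiltration.adic m₂),
      (∀ (n : ℕ) x, x ∈ AssocGr.gr (FiltBl.IdealFiltration.adic n') n →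
          e x ∈ AssocGr.gr (FiltBl.IdealFiltration.adic m₂) n) ∧
      ∀ a, e (algebraMap R _ (π a)) = algebraMap R' _ (π' a) := by
  obtain ⟨Ψ₁, hs₁, hk₁, hd₁, ha₁⟩ := h₁.exists_hom
  obtain ⟨Ψ₂, hs₂, hk₂, hd₂, ha₂⟩ := h₂.exists_hom
  have hker : RingHom.ker Ψ₁ = RingHom.ker Ψ₂ := by
    ext p
    rw [RingHom.mem_ker, RingHom.mem_ker, hk₁, hk₂]
    exact forall_congr' fun n => he n _ (p.2 n)
  let e := (RingHom.quotientKerEquivOfSurjective hs₁).symm.trans
    ((Ideal.quotEquivOfEq hker).trans (RingHom.quotientKerEquivOfSurjective hs₂))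
  have hee : ∀ p, e (Ψ₁ p) = Ψ₂ p := fun p => by
    have h0 : (RingHom.quotientKerEquivOfSurjective hs₁).symm (Ψ₁ p) = Ideal.Quotient.mk _ p :=
      (RingEquiv.symm_apply_eq _).2 rfl
    show (RingHom.quotientKerEquivOfSurjective hs₂) ((Ideal.quotEquivOfEq hker)
      ((RingHom.quotientKerEquivOfSurjective hs₁).symm (Ψ₁ p))) = _
    rw [h0]; rfl
  refine ⟨e, fun n x hx => ?_, fun a => by rw [← ha₁, hee, ha₂]⟩
  obtain ⟨c, hc⟩ := AssocGr.inDeg_surjective _ n ⟨x, hx⟩
  obtain ⟨a, ha, hca⟩ := h₁.lift n c c.2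
  have e1 : x = Ψ₁ (AssocGr.monom (FiltBl.IdealFiltration.adic m) n ⟨a, ha⟩) := by
    rw [hd₁, ← show (AssocGr.inDeg _ n c : AssocGr.GrRing _) = x from congrArg Subtype.val hc]
    refine congrArg Subtype.val (sub_eq_zero.1 ?_)
    rw [← map_sub, AssocGr.inDeg_eq_zero_iff]
    exact hca
  rw [e1, hee, hd₂]
  exact Subtype.coe_prop _

section finrank

variable {k : Type u} [Field k] {A : Type u} [CommRing A] [Algebra k A]

theorem finrank_quotient_of_sup {K K' M : Ideal A} (hK : K ≤ K') (hK' : K' = K ⊔ M) [Module.Finite k (A ⧸ K)] :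
    Module.finrank k (A ⧸ K) =
      Module.finrank k (A ⧸ K') + Module.finrank k (↥(M.restrictScalars k) ⧸
        ((K ⊓ M).restrictScalars k).comap (M.restrictScalars k).subtype) := by
  let f : (A ⧸ K) →ₗ[k] (A ⧸ K') := (Ideal.Quotient.factorₐ k hK).toLinearMap
  have hf : Function.Surjective f := Ideal.Quotient.factor_surjective hK
  let g : ↥(M.restrictScalars k) →ₗ[k] (A ⧸ K) :=
    (Ideal.Quotient.mkₐ k K).toLinearMap.comp (M.restrictScalars k).subtype
  have hg : LinearMap.range g = LinearMap.ker f := by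
    refine le_antisymm ?_ fun q hq => ?_
    · rintro _ ⟨⟨a, ha⟩, rfl⟩
      show Ideal.Quotient.mk K' a = 0
      rw [Ideal.Quotient.eq_zero_iff_mem, hK']
      exact Submodule.mem_sup_right ha
    · obtain ⟨a, rfl⟩ := Ideal.Quotient.mk_surjective q
      have ha : a ∈ K' := Ideal.Quotient.eq_zero_iff_mem.1 (show Ideal.Quotient.mk K' a = 0 from hq)
      rw [hK'] at ha
      obtain ⟨b, hb, c, hc, rfl⟩ := Submodule.mem_sup.1 ha
      refine ⟨⟨c, hc⟩, ?_⟩
      show Ideal.Quotient.mk K c = Ideal.Quotient.mk K (b + c)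
      rw [Ideal.Quotient.eq]
      simpa using neg_mem hb
  have hker : LinearMap.ker g = ((K ⊓ M).restrictScalars k).comap (M.restrictScalars k).subtype := by
    ext ⟨a, ha⟩
    rw [LinearMap.mem_ker, Submodule.mem_comap]
    show Ideal.Quotient.mk K a = 0 ↔ a ∈ K ⊓ M
    rw [Ideal.Quotient.eq_zero_iff_mem]
    exact ⟨fun h => ⟨h, ha⟩, fun h => h.1⟩
  rw [← hker, g.quotKerEquivRange.finrank_eq, hg, ← f.finrank_range_add_finrank_ker,
    LinearMap.range_eq_top.2 hf, finrank_top]

end finrank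

section colimit

variable {k : Type u} [Field k]

theorem exists_fg_of_preserves (F : CommAlgCat.{u} k ⥤ Type u)
    (hF : ∀ (J : Type u) [SmallCategory J] [IsFiltered J], PreservesColimitsOfShape J F)
    (R : Type u) [CommRing R] [Algebra k R] (ξ : F.obj (CommAlgCat.of k R)) :
    ∃ S : Subalgebra k R, S.FG ∧ ∃ ξ' : F.obj (CommAlgCat.of k S), F.map (CommAlgCat.ofHom S.val) ξ' = ξ := by
  let J := {S : Subalgebra k R // S.FG}
  have : IsDirectedOrder J := ⟨fun a b => ⟨⟨a.1 ⊔ b.1, a.2.sup b.2⟩, (le_sup_left : a.1 ≤ a.1 ⊔ b.1), (le_sup_right : b.1 ≤ a.1 ⊔ b.1)⟩⟩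
  have : Nonempty J := ⟨⟨⊥, Subalgebra.fg_bot⟩⟩
  have := hF J
  let D : J ⥤ CommAlgCat.{u} k :=
    { obj := fun S => CommAlgCat.of k S.1
      map := fun φ => CommAlgCat.ofHom (Subalgebra.inclusion (leOfHom φ))
      map_id := fun _ => CommAlgCat.hom_ext (AlgHom.ext fun _ => rfl)
      map_comp := fun _ _ => CommAlgCat.hom_ext (AlgHom.ext fun _ => rfl) }
  let c : Cocone D :=
    { pt := CommAlgCat.of k R
      ι := { app := fun S => CommAlgCat.ofHom S.1.val
             naturality := fun _ _ _ => CommAlgCat.hom_ext (AlgHom.ext fun _ => rfl) } }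
  have hmem : ∀ x : R, (Algebra.adjoin k {x}).FG := fun x => ⟨{x}, by simp⟩
  let pick : R → J := fun x => ⟨Algebra.adjoin k {x}, hmem x⟩
  have hw : ∀ (s : Cocone D) (a b : J) (h : a.1 ≤ b.1) (y : a.1),
      (s.ι.app b).hom (Subalgebra.inclusion h y) = (s.ι.app a).hom y := fun s a b h y => by
    have := congrArg (fun q => q.hom y) (s.w (homOfLE (show a ≤ b from h)))
    exact this
  let val : ∀ (s : Cocone D), R → s.pt := fun s x =>
    (s.ι.app (pick x)).hom ⟨x, Algebra.subset_adjoin rfl⟩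
  have hval : ∀ (s : Cocone D) (a : J) (x : R) (hx : x ∈ a.1), (s.ι.app a).hom ⟨x, hx⟩ = val s x := fun s a x hx => by
    have h := hw s (pick x) a (Algebra.adjoin_le (Set.singleton_subset_iff.2 hx)) ⟨x, Algebra.subset_adjoin rfl⟩
    exact h
  let desc : ∀ s : Cocone D, R →ₐ[k] s.pt := fun s =>
    { toFun := val s
      map_one' := (hval s (pick 1) 1 (one_mem _)).symm.trans (map_one _)
      map_zero' := (hval s (pick 0) 0 (zero_mem _)).symm.trans (map_zero _)
      map_mul' := fun x y => by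
        let a : J := ⟨Algebra.adjoin k {x} ⊔ Algebra.adjoin k {y}, (hmem x).sup (hmem y)⟩
        have hx : x ∈ a.1 := le_sup_left (b := Algebra.adjoin k {y}) (Algebra.subset_adjoin rfl)
        have hy : y ∈ a.1 := le_sup_right (a := Algebra.adjoin k {x}) (Algebra.subset_adjoin rfl)
        rw [← hval s a _ (mul_mem hx hy), ← hval s a x hx, ← hval s a y hy]
        exact map_mul (s.ι.app a).hom ⟨x, hx⟩ ⟨y, hy⟩
      map_add' := fun x y => by
        let a : J := ⟨Algebra.adjoin k {x} ⊔ Algebra.adjoin k {y}, (hmem x).sup (hmem y)⟩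
        have hx : x ∈ a.1 := le_sup_left (b := Algebra.adjoin k {y}) (Algebra.subset_adjoin rfl)
        have hy : y ∈ a.1 := le_sup_right (a := Algebra.adjoin k {x}) (Algebra.subset_adjoin rfl)
        rw [← hval s a _ (add_mem hx hy), ← hval s a x hx, ← hval s a y hy]
        exact map_add (s.ι.app a).hom ⟨x, hx⟩ ⟨y, hy⟩
      commutes' := fun r => (hval s (pick (algebraMap k R r)) _ (Subalgebra.algebraMap_mem _ r)).symm.trans
        ((s.ι.app _).hom.commutes r) }
  have hc : IsColimit c :=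
    { desc := fun s => CommAlgCat.ofHom (desc s)
      fac := fun s a => CommAlgCat.hom_ext (AlgHom.ext fun y => (hval s a y.1 y.2).symm)
      uniq := fun s g hg => CommAlgCat.hom_ext (AlgHom.ext fun x => by
        have := congrArg (fun q => q.hom ⟨x, Algebra.subset_adjoin rfl⟩) (hg (pick x))
        exact this) }
  obtain ⟨S, ξ', hξ⟩ := Types.jointly_surjective _ (isColimitOfPreserves F hc) ξ
  exact ⟨S.1, S.2, ξ', hξ⟩

end colimit

end Groth.Agent.AlgzApx
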