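import Mathlib

/-!
# Perturbation of an ideal together with its relations
-/

set_option autoImplicit false

universe u

namespace Groth.Agent.AlgzApx

variable {P : Type u} [CommRing P] [IsNoetherianRing P] (m : Ideal P)

theorem exists_ar {M N : Type u} [AddCommGroup M] [Module P M] [Module.Finite P M] [AddCommGroup N] [Module P N]
    (φ : N →ₗ[P] M) :
    ∃ k, ∀ n, ∀ x ∈ (m ^ n) • (⊤ : Submodule P M), x ∈ LinearMap.range φ →
      ∃ y ∈ (m ^ (n - k)) • (⊤ : Submodule P N), φ y = x := by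
  obtain ⟨k, hk⟩ := m.exists_pow_inf_eq_pow_smul (LinearMap.range φ)
  refine ⟨k, fun n x hx hxr => ?_⟩
  by_cases hn : k ≤ n
  · have h1 : x ∈ m ^ (n - k) • LinearMap.range φ := by
      have h2 : x ∈ m ^ n • (⊤ : Submodule P M) ⊓ LinearMap.range φ := ⟨hx, hxr⟩
      rw [hk n hn] at h2
      exact Submodule.smul_mono le_rfl inf_le_right h2
    rw [LinearMap.range_eq_map, ← Submodule.map_smul''] at h1
    exact h1
  · obtain ⟨y, rfl⟩ := hxr
    exact ⟨y, by rw [Nat.sub_eq_zero_of_le (not_le.1 hn).le, pow_zero, Ideal.one_eq_top, Submodule.top_smul]; trivial,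
      rfl⟩

omit [IsNoetherianRing P] in
theorem map_mem_of_range_le {M N : Type u} [AddCommGroup M] [Module P M] [AddCommGroup N] [Module P N]
    (φ : N →ₗ[P] M) {C j : ℕ} (h : LinearMap.range φ ≤ (m ^ C) • (⊤ : Submodule P M)) {y : N}
    (hy : y ∈ (m ^ j) • (⊤ : Submodule P N)) : φ y ∈ (m ^ (j + C)) • (⊤ : Submodule P M) := by
  have h1 : φ y ∈ Submodule.map φ ((m ^ j) • (⊤ : Submodule P N)) := ⟨y, hy, rfl⟩
  rw [Submodule.map_smul'', ← LinearMap.range_eq_map] at h1
  rw [pow_add, mul_smul]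
  exact Submodule.smul_mono le_rfl h h1

/-- small perturbations respecting the relations do not change the initial ideals -/
theorem exists_perturb {M N : Type u} [AddCommGroup M] [Module P M] [Module.Finite P M] [AddCommGroup N] [Module P N]
    (f : M →ₗ[P] P) (a : N →ₗ[P] M) (ha : LinearMap.range a = LinearMap.ker f) :
    ∃ C₀, ∀ C, C₀ ≤ C → ∀ (f' : M →ₗ[P] P) (a' : N →ₗ[P] M), f'.comp a' = 0 →
      LinearMap.range (f' - f) ≤ (m ^ C) • (⊤ : Submodule P P) →
      LinearMap.range (a' - a) ≤ (m ^ C) • (⊤ : Submodule P M) →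
      ∀ n, ∀ u ∈ m ^ n, (u ∈ LinearMap.range f ⊔ m ^ (n + 1) ↔ u ∈ LinearMap.range f' ⊔ m ^ (n + 1)) := by
  obtain ⟨k₁, hk₁⟩ := exists_ar m f
  obtain ⟨k₂, hk₂⟩ := exists_ar m a
  refine ⟨k₁ + k₂ + 1, fun C hC f' a' hfa hf haC n u hu => ?_⟩
  have hdf : ∀ {j : ℕ} {b : M}, b ∈ (m ^ j) • (⊤ : Submodule P M) → f' b - f b ∈ m ^ (j + C) := fun {j b} hb => by
    have := map_mem_of_range_le m (f' - f) hf hb
    simpa using this
  have hf_ar : ∀ {n : ℕ} {b : M}, f b ∈ m ^ n → ∃ b' ∈ (m ^ (n - k₁)) • (⊤ : Submodule P M), f b' = f b :=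
    fun {n b} h => hk₁ n (f b) (by simpa using h) ⟨b, rfl⟩
  have hmem : ∀ {i i' : ℕ} {x : P}, i ≤ i' → x ∈ m ^ i' → x ∈ m ^ i := fun h hx => Ideal.pow_le_pow_right h hx
  constructor
  · intro h
    obtain ⟨_, ⟨b, rfl⟩, w, hw, rfl⟩ := Submodule.mem_sup.1 h
    obtain ⟨b', hb', e⟩ := hf_ar (n := n) (b := b) (by
      simpa using sub_mem hu (hmem (Nat.le_succ n) hw))
    refine Submodule.mem_sup.2 ⟨f' b', ⟨b', rfl⟩, w - (f' b' - f b'), sub_mem hw ?_, by rw [e]; ring⟩
    exact hmem (by omega) (hdf hb')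
  · intro h
    obtain ⟨_, ⟨b₀, rfl⟩, w, hw, rfl⟩ := Submodule.mem_sup.1 h
    have key : ∀ j, j ≤ n - k₁ → ∃ b ∈ (m ^ j) • (⊤ : Submodule P M), f' b = f' b₀ := by
      intro j hj
      induction j with
      | zero => exact ⟨b₀, by rw [pow_zero, Ideal.one_eq_top, Submodule.top_smul]; trivial, rfl⟩
      | succ j ih =>
        obtain ⟨b, hb, e⟩ := ih (Nat.le_of_succ_le hj)
        have h1 : f' b ∈ m ^ n := by
          rw [e]; simpa using sub_mem hu (hmem (Nat.le_succ n) hw)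
        have h2 : f b ∈ m ^ min n (j + C) := by
          simpa using sub_mem (hmem (min_le_left _ _) h1) (hmem (min_le_right n (j + C)) (hdf hb))
        obtain ⟨b', hb', e'⟩ := hf_ar h2
        have hb'' : b' ∈ (m ^ (j + 1)) • (⊤ : Submodule P M) :=
          Submodule.smul_mono (Ideal.pow_le_pow_right (by omega)) le_rfl hb'
        obtain ⟨y, hy, ey⟩ := hk₂ j (b - b')
          (sub_mem hb (Submodule.smul_mono (Ideal.pow_le_pow_right (Nat.le_succ j)) le_rfl hb''))
          (by rw [ha, LinearMap.mem_ker, map_sub, e', sub_self])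
        refine ⟨b - a' y, ?_, ?_⟩
        · have h3 : b - a' y = b' - (a' - a) y := by
            rw [LinearMap.sub_apply, ey]; abel
          rw [h3]
          exact sub_mem hb'' (Submodule.smul_mono (Ideal.pow_le_pow_right (by omega)) le_rfl
            (map_mem_of_range_le m (a' - a) haC hy))
        · rw [map_sub, ← LinearMap.comp_apply, hfa, LinearMap.zero_apply, sub_zero, e]
    obtain ⟨b, hb, e⟩ := key _ le_rfl
    refine Submodule.mem_sup.2 ⟨f b, ⟨b, rfl⟩, w + (f' b - f b), add_mem hw ?_, by rw [← e]; ring⟩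
    exact hmem (by omega) (hdf hb)

end Groth.Agent.AlgzApx
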