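import Groth.Agent.AlgzApx.Dense
import Groth.Agent.AlgzApx.Perturb
import Groth.Agent.AlgzApx.Graded
import Groth.Agent.ArtPow.Present
import Mathlib.RingTheory.Polynomial.Basic

/-!
# Finite type approximations of complete local algebras with a family
-/

set_option autoImplicit false

universe u

open CategoryTheory CategoryTheory.Limits

set_option backward.isDefEq.respectTransparency false

namespace Groth.Agent.AlgzApx

/-- a presentation by power series -/
theorem exists_presentation' (k : Type u) [Field k] (R : Type u) [CommRing R] [Algebra k R] [IsLocalRing R]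
    [IsNoetherianRing R] [IsAdicComplete (IsLocalRing.maximalIdeal R) R]
    (hres : Function.Surjective (fun c : k => IsLocalRing.residue R (algebraMap k R c))) :
    ∃ (d : ℕ) (q : MvPowerSeries (Fin d) k →ₐ[k] R), Function.Surjective q ∧
      RingHom.ker q ≤ IsLocalRing.maximalIdeal (MvPowerSeries (Fin d) k) ^ 2 := by
  have hb : Function.Bijective (Algebra.ofId k (IsLocalRing.ResidueField R)) := by
    refine ⟨(algebraMap k (IsLocalRing.ResidueField R)).injective, fun y => ?_⟩
    obtain ⟨c, hc⟩ := hres y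
    refine ⟨c, ?_⟩
    show algebraMap k (IsLocalRing.ResidueField R) c = _
    rw [IsScalarTower.algebraMap_apply k R (IsLocalRing.ResidueField R)]
    exact hc
  let res : R →ₐ[k] k := (AlgEquiv.ofBijective _ hb).symm.toAlgHom.comp
    (IsScalarTower.toAlgHom k R (IsLocalRing.ResidueField R))
  let C : ArtFun.CRing k k :=
    { carrier := R
      res := res
      res_surjective := (AlgEquiv.ofBijective _ hb).symm.surjective.comp IsLocalRing.residue_surjective
      isAdicComplete := ‹_› }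
  obtain ⟨d, J, hJ, ⟨e⟩⟩ := ArtPow.exists_presentation (k := k) C
  refine ⟨d, e.toAlgHom.comp (Ideal.Quotient.mkₐ k J), e.surjective.comp Ideal.Quotient.mk_surjective, fun z hz => ?_⟩
  refine hJ (Ideal.Quotient.eq_zero_iff_mem.1 (e.injective ?_))
  rw [map_zero]
  exact hz

variable {k : Type u} [Field k] [IsAlgClosed k]

set_option maxHeartbeats 2000000 in
theorem exists_model (F : CommAlgCat.{u} k ⥤ Type u)
    (hF : ∀ (J : Type u) [SmallCategory J] [IsFiltered J], PreservesColimitsOfShape J F)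
    (R : Type u) [CommRing R] [Algebra k R] [IsLocalRing R] [IsNoetherianRing R]
    [IsAdicComplete (IsLocalRing.maximalIdeal R) R]
    (hres : Function.Surjective (fun c : k => IsLocalRing.residue R (algebraMap k R c)))
    (ξ : F.obj (CommAlgCat.of k R)) (N : ℕ) :
    ∃ (A : Type u) (_ : CommRing A) (_ : Algebra k A) (_ : Algebra.FiniteType k A) (m : Ideal A) (_ : m.IsMaximal)
      (_ : Function.Surjective (fun c : k => Ideal.Quotient.mk m (algebraMap k A c)))
      (η : F.obj (CommAlgCat.of k A))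
      (φ : (R ⧸ IsLocalRing.maximalIdeal R ^ (N + 1)) ≃ₐ[k] (A ⧸ m ^ (N + 1))),
      (F.map (CommAlgCat.ofHom (φ.toAlgHom.comp
          (Ideal.Quotient.mkₐ k (IsLocalRing.maximalIdeal R ^ (N + 1))))) ξ =
        F.map (CommAlgCat.ofHom (Ideal.Quotient.mkₐ k (m ^ (N + 1)))) η) ∧
      (∀ n, Module.Finite k (R ⧸ IsLocalRing.maximalIdeal R ^ n) ∧ Module.Finite k (A ⧸ m ^ n) ∧
        Module.finrank k (R ⧸ IsLocalRing.maximalIdeal R ^ n) = Module.finrank k (A ⧸ m ^ n)) ∧
      ∃ e : AssocGr.GrRing (FiltBl.IdealFiltration.adic (IsLocalRing.maximalIdeal R)) ≃+*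
          AssocGr.GrRing (FiltBl.IdealFiltration.adic m),
        (∀ (n : ℕ) (x : AssocGr.GrRing (FiltBl.IdealFiltration.adic (IsLocalRing.maximalIdeal R))),
            x ∈ AssocGr.gr (FiltBl.IdealFiltration.adic (IsLocalRing.maximalIdeal R)) n →
              e x ∈ AssocGr.gr (FiltBl.IdealFiltration.adic m) n) ∧
        (∀ c : k, e (algebraMap R _ (algebraMap k R c)) = algebraMap A _ (algebraMap k A c)) := by
  classical
  obtain ⟨d, q, hq, hq2⟩ := exists_presentation' k R hres
  let P := MvPowerSeries (Fin d) k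
  let mP := IsLocalRing.maximalIdeal P
  let mR := IsLocalRing.maximalIdeal R
  have hmR : mP.map q = mR := by
    refine IsLocalRing.eq_maximalIdeal ((Ideal.map_eq_top_or_isMaximal_of_surjective q hq
      (IsLocalRing.maximalIdeal.isMaximal P)).resolve_left fun htop => ?_)
    have h1 := congrArg (Ideal.comap q) htop
    rw [Ideal.comap_map_of_surjective q hq, Ideal.comap_top] at h1
    exact (IsLocalRing.maximalIdeal.isMaximal P).ne_top (top_le_iff.1 (h1.symm.le.trans
      (sup_le le_rfl (fun z hz => Ideal.pow_le_self two_ne_zero (hq2 (by simpa [RingHom.mem_ker] using hz))))))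
  -- relations
  obtain ⟨s, f, hf⟩ := Submodule.fg_iff_exists_fin_generating_family.1
    (IsNoetherian.noetherian (RingHom.ker q.toRingHom : Ideal P))
  let fL : (Fin s → P) →ₗ[P] P := Fintype.linearCombination P f
  have hfL : LinearMap.range fL = RingHom.ker q.toRingHom := by
    rw [Fintype.range_linearCombination]; exact hf
  obtain ⟨r, a, ha⟩ := Submodule.fg_iff_exists_fin_generating_family.1
    (IsNoetherian.noetherian (LinearMap.ker fL))
  let aL : (Fin r → P) →ₗ[P] (Fin s → P) := Fintype.linearCombination P a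
  have haL : LinearMap.range aL = LinearMap.ker fL := by rw [Fintype.range_linearCombination]; exact ha
  obtain ⟨C₀, hC₀⟩ := exists_perturb mP fL aL haL
  let C := C₀ + N + 2
  -- the finitely generated subalgebra carrying the family
  obtain ⟨S, hS, ξ₀, hξ₀⟩ := exists_fg_of_preserves F hF R ξ
  have : Algebra.FiniteType k S := (Subalgebra.fg_iff_finiteType S).1 hS
  obtain ⟨l, ρ, hρ⟩ := Algebra.FiniteType.iff_quotient_mvPolynomial''.1 this
  obtain ⟨w, qt, hqt⟩ := Submodule.fg_iff_exists_fin_generating_family.1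
    (IsNoetherian.noetherian (RingHom.ker ρ.toRingHom : Ideal (MvPolynomial (Fin l) k)))
  choose c hc using fun i => hq (ρ (MvPolynomial.X i)).1
  have hqc : (q.comp (MvPolynomial.aeval c)) = S.val.comp ρ := MvPolynomial.algHom_ext fun i => by
    simp [hc]
  have hdt : ∀ t, ∃ e : Fin s → P, MvPolynomial.aeval c (qt t) = fL e := fun t => by
    have h1 : MvPolynomial.aeval c (qt t) ∈ RingHom.ker q.toRingHom := by
      rw [RingHom.mem_ker]
      show (q.comp (MvPolynomial.aeval c)) (qt t) = 0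
      have h2 : qt t ∈ RingHom.ker ρ.toRingHom := hqt ▸ Submodule.subset_span ⟨t, rfl⟩
      rw [hqc, AlgHom.comp_apply, show ρ (qt t) = 0 from RingHom.mem_ker.1 h2, map_zero]
    rw [← hfL] at h1
    obtain ⟨e, he⟩ := h1
    exact ⟨e, he.symm⟩
  choose dt hdt using hdt
  -- a smooth algebra containing all data
  let gens : Set P := Set.range (MvPowerSeries.X : Fin d → P) ∪ Set.range f ∪ Set.range (fun x : Fin r × Fin s => a x.1 x.2) ∪
    Set.range c ∪ Set.range (fun x : Fin w × Fin s => dt x.1 x.2)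
  let C0 : Subalgebra k P := Algebra.adjoin k gens
  have hC0 : Algebra.FiniteType k C0 := (Subalgebra.fg_iff_finiteType C0).1
    ⟨Set.Finite.toFinset (s := gens) ((((Set.finite_range _).union (Set.finite_range _)).union (Set.finite_range _)).union
      (Set.finite_range _) |>.union (Set.finite_range _)), by rw [Set.Finite.coe_toFinset]⟩
  have : Algebra.FinitePresentation k C0 := Algebra.FinitePresentation.of_finiteType.1 hC0
  obtain ⟨B, _, _, hB, g₀, h, hgh⟩ := exists_smooth_factor C0 C0.val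
  have hXm : ∀ i, (MvPowerSeries.X i : P) ∈ C0 := fun i =>
    Algebra.subset_adjoin (Or.inl (Or.inl (Or.inl (Or.inl ⟨i, rfl⟩))))
  have hfm : ∀ i, f i ∈ C0 := fun i => Algebra.subset_adjoin (Or.inl (Or.inl (Or.inl (Or.inr ⟨i, rfl⟩))))
  have ham : ∀ j i, a j i ∈ C0 := fun j i => Algebra.subset_adjoin (Or.inl (Or.inl (Or.inr ⟨(j, i), rfl⟩)))
  have hcm : ∀ i, c i ∈ C0 := fun i => Algebra.subset_adjoin (Or.inl (Or.inr ⟨i, rfl⟩))
  have hdm : ∀ t i, dt t i ∈ C0 := fun t i => Algebra.subset_adjoin (Or.inr ⟨(t, i), rfl⟩)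
  let X' : Fin d → B := fun i => g₀ ⟨_, hXm i⟩
  have hX' : ∀ i, h (X' i) = MvPowerSeries.X i := fun i => DFunLike.congr_fun hgh ⟨_, hXm i⟩
  obtain ⟨e, y, h', hh'X, hh'y, hh'C, hspan⟩ := exists_section h X' hX' C (by omega)
  -- the algebra with the same truncations as power series
  let I : Ideal B := Ideal.span (Set.range y)
  let A₂ := B ⧸ I
  let h₂ : A₂ →ₐ[k] P := Ideal.Quotient.liftₐ I h' (fun z hz => by
    have : I ≤ RingHom.ker h' := Ideal.span_le.2 (by rintro _ ⟨j, rfl⟩; exact hh'y j)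
    exact this hz)
  let x₂ : Fin d → A₂ := fun i => Ideal.Quotient.mk I (X' i)
  let mA := Ideal.comap h₂ mP
  have hcomap : Ideal.comap h mP = Ideal.comap h' mP := by
    ext b
    show h b ∈ mP ↔ h' b ∈ mP
    have h1 : h b - h' b ∈ mP := Ideal.pow_le_self (by omega) (hh'C b)
    exact ⟨fun h2 => by simpa using sub_mem h2 h1, fun h2 => by simpa using add_mem h1 h2⟩
  have hco : Coord h₂ x₂ := by
    refine ⟨fun i => hh'X i, fun z hz => ?_⟩
    obtain ⟨b, rfl⟩ := Ideal.Quotient.mk_surjective z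
    have hb : b ∈ Ideal.comap h mP := hcomap.symm ▸ hz
    rw [hspan] at hb
    have := Ideal.mem_map_of_mem (Ideal.Quotient.mk I) hb
    rw [Ideal.map_sup, Ideal.map_sup, Ideal.map_quotient_self, sup_bot_eq, Ideal.map_span, ← Set.range_comp,
      Ideal.map_pow] at this
    have h2 : Ideal.map (Ideal.Quotient.mk I) (Ideal.comap h mP) ≤ Ideal.comap h₂ mP := by
      rw [Ideal.map_le_iff_le_comap, hcomap]
      exact le_rfl
    exact SetLike.le_def.1 (sup_le_sup_left (Ideal.pow_right_mono h2 2) _) this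
  let gA : C0 →ₐ[k] A₂ := (Ideal.Quotient.mkₐ k I).comp g₀
  have hnear : ∀ z : C0, (z : P) - h₂ (gA z) ∈ mP ^ C := fun z => by
    have h1 := hh'C (g₀ z)
    rw [show h (g₀ z) = (z : P) from DFunLike.congr_fun hgh z] at h1
    exact h1
  let Fi : Fin s → A₂ := fun i => gA ⟨_, hfm i⟩
  let f' : Fin s → P := fun i => h₂ (Fi i)
  let fL' : (Fin s → P) →ₗ[P] P := Fintype.linearCombination P f'
  let aL' : (Fin r → P) →ₗ[P] (Fin s → P) := Fintype.linearCombination P fun j i => h₂ (gA ⟨_, ham j i⟩)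
  have hrel : fL'.comp aL' = 0 := by
    refine LinearMap.ext fun v => ?_
    have h0 : ∀ j, ∑ i, h₂ (gA ⟨_, ham j i⟩) * f' i = 0 := fun j => by
      have h1 : ∑ i, (⟨_, ham j i⟩ : C0) * ⟨_, hfm i⟩ = 0 := Subtype.ext (by
        rw [AddSubmonoidClass.coe_finsetSum, ZeroMemClass.coe_zero]
        simp only [MulMemClass.coe_mul]
        have h2 : a j ∈ LinearMap.ker fL := ha ▸ Submodule.subset_span ⟨j, rfl⟩
        simpa [fL, Fintype.linearCombination_apply, LinearMap.mem_ker] using h2)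
      have h3 := congrArg (fun z => h₂ (gA z)) h1
      simpa only [map_sum, map_mul, map_zero] using h3
    show fL' (aL' v) = 0
    simp only [aL', Fintype.linearCombination_apply, map_sum, map_smul]
    refine Finset.sum_eq_zero fun j _ => ?_
    simp only [fL', Fintype.linearCombination_apply, smul_eq_mul, h0, mul_zero]
  have hdf : LinearMap.range (fL' - fL) ≤ (mP ^ C) • (⊤ : Submodule P P) := by
    rintro _ ⟨v, rfl⟩
    simp only [LinearMap.sub_apply, fL', fL, Fintype.linearCombination_apply, smul_eq_mul, Ideal.mul_top]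
    rw [← Finset.sum_sub_distrib]
    simp only [← mul_sub]
    refine sum_mem fun i _ => Ideal.mul_mem_left _ _ ?_
    rw [← neg_sub]
    exact neg_mem (hnear ⟨_, hfm i⟩)
  have hda : LinearMap.range (aL' - aL) ≤ (mP ^ C) • (⊤ : Submodule P (Fin s → P)) := by
    rintro _ ⟨v, rfl⟩
    simp only [LinearMap.sub_apply, aL', aL, Fintype.linearCombination_apply]
    rw [← Finset.sum_sub_distrib]
    simp only [← smul_sub]
    refine sum_mem fun j _ => Submodule.smul_mem _ _ ?_
    have hrw : ∀ u : Fin s → P, (∀ i, u i ∈ mP ^ C) → u ∈ (mP ^ C) • (⊤ : Submodule P (Fin s → P)) := fun u hu => by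
      rw [← Finset.univ_sum_single u]
      refine sum_mem fun i _ => ?_
      rw [show Pi.single i (u i) = u i • (Pi.single i (1 : P) : Fin s → P) by
        rw [← Pi.single_smul, smul_eq_mul, mul_one]]
      exact Submodule.smul_mem_smul (hu i) trivial
    refine hrw _ fun i => ?_
    rw [Pi.sub_apply, ← neg_sub]
    exact neg_mem (hnear ⟨_, ham j i⟩)
  have hpert := hC₀ C (by omega) fL' aL' hrel hdf hda
  -- the finite type algebra
  let JA : Ideal A₂ := Ideal.span (Set.range Fi)
  let A := A₂ ⧸ JA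
  let πA : A₂ →ₐ[k] A := Ideal.Quotient.mkₐ k JA
  let m : Ideal A := mA.map (Ideal.Quotient.mk JA)
  have hrange' : LinearMap.range fL' = Ideal.span (Set.range f') := Fintype.range_linearCombination P f'
  have hmapJ : JA.map h₂ ≤ LinearMap.range fL' := by
    rw [hrange', Ideal.map_span, ← Set.range_comp]; exact le_rfl
  have hsupC : ∀ n ≤ C, RingHom.ker q.toRingHom ⊔ mP ^ n = LinearMap.range fL' ⊔ mP ^ n := fun n hn => by
    rw [← hf, hrange']
    refine le_antisymm (sup_le (Submodule.span_le.2 ?_) le_sup_right) (sup_le (Submodule.span_le.2 ?_) le_sup_right)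
    · rintro _ ⟨i, rfl⟩
      exact Submodule.mem_sup.2 ⟨f' i, Ideal.subset_span ⟨i, rfl⟩, f i - f' i,
        Ideal.pow_le_pow_right hn (hnear ⟨_, hfm i⟩), by ring⟩
    · rintro _ ⟨i, rfl⟩
      exact Submodule.mem_sup.2 ⟨f i, Submodule.subset_span ⟨i, rfl⟩, -(f i - f' i),
        neg_mem (Ideal.pow_le_pow_right hn (hnear ⟨_, hfm i⟩)), by ring⟩
  have hA : ∀ (n : ℕ) (z : A₂), Ideal.Quotient.mk JA z ∈ m ^ n ↔ h₂ z ∈ LinearMap.range fL' ⊔ mP ^ n := fun n z => by
    rw [← Ideal.map_pow, ← Ideal.mem_comap, Ideal.comap_map_of_surjective' _ Ideal.Quotient.mk_surjective, Ideal.mk_ker]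
    constructor
    · intro hz
      obtain ⟨u, hu, v, hv, rfl⟩ := Submodule.mem_sup.1 hz
      rw [map_add]
      exact add_mem (Submodule.mem_sup_right (map_pow_le h₂ hu))
        (Submodule.mem_sup_left (hmapJ (Ideal.mem_map_of_mem h₂ hv)))
    · intro hz
      obtain ⟨_, ⟨b, rfl⟩, v, hv, e⟩ := Submodule.mem_sup.1 hz
      choose b' hb' using fun i => hco.exists_near n (b i)
      have h1 : h₂ (z - ∑ i, b' i * Fi i) ∈ mP ^ n := by
        rw [map_sub, ← e, map_sum]
        simp only [fL', Fintype.linearCombination_apply, smul_eq_mul, map_mul, f']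
        rw [add_sub_right_comm, ← Finset.sum_sub_distrib]
        refine add_mem (sum_mem fun i _ => ?_) hv
        rw [← sub_mul]
        exact Ideal.mul_mem_right _ _ (hb' i)
      exact Submodule.mem_sup.2 ⟨_, hco.mem_pow h1, _, sum_mem fun i _ => Ideal.mul_mem_left _ _
        (Ideal.subset_span ⟨i, rfl⟩), sub_add_cancel _ _⟩
  let πR : A₂ →ₐ[k] R := q.comp h₂
  have hR : ∀ (n : ℕ) (z : A₂), πR z ∈ mR ^ n ↔ h₂ z ∈ RingHom.ker q.toRingHom ⊔ mP ^ n := fun n z => by
    rw [← hmR, ← Ideal.map_pow]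
    show q (h₂ z) ∈ _ ↔ _
    rw [← Ideal.mem_comap, Ideal.comap_map_of_surjective' q hq, sup_comm]
    rfl
  have hker₁ : ∀ n, ∀ z ∈ mA ^ n, (πR z ∈ mR ^ (n + 1) ↔ πA z ∈ m ^ (n + 1)) := fun n z hz => by
    rw [hR, show πA z = Ideal.Quotient.mk JA z from rfl, hA, ← hfL]
    exact hpert n (h₂ z) (map_pow_le h₂ hz)
  have hkerN : ∀ n ≤ C, ∀ z, (πR z ∈ mR ^ n ↔ πA z ∈ m ^ n) := fun n hn z => by
    rw [hR, show πA z = Ideal.Quotient.mk JA z from rfl, hA, hsupC n hn]
  have hcovR : GrCover πR.toRingHom mA mR := by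
    refine ⟨fun n z hz => (hR n z).2 (Submodule.mem_sup_right (map_pow_le h₂ hz)), fun n c hc => ?_⟩
    rw [← hmR, ← Ideal.map_pow, Ideal.mem_map_iff_of_surjective q hq] at hc
    obtain ⟨u, hu, rfl⟩ := hc
    obtain ⟨z, hz⟩ := hco.exists_near (n + 1) u
    refine ⟨z, hco.mem_pow (by simpa using sub_mem hu (Ideal.pow_le_pow_right n.le_succ hz)), ?_⟩
    show q u - q (h₂ z) ∈ _
    rw [← map_sub, ← hmR, ← Ideal.map_pow]
    exact Ideal.mem_map_of_mem q hz
  have hcovA : GrCover πA.toRingHom mA m := by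
    refine ⟨fun n z hz => ?_, fun n c hc => ?_⟩
    · show Ideal.Quotient.mk JA z ∈ m ^ n
      rw [← Ideal.map_pow]
      exact Ideal.mem_map_of_mem _ hz
    · rw [← Ideal.map_pow, Ideal.mem_map_iff_of_surjective _ Ideal.Quotient.mk_surjective] at hc
      obtain ⟨z, hz, rfl⟩ := hc
      refine ⟨z, hz, ?_⟩
      show Ideal.Quotient.mk JA z - Ideal.Quotient.mk JA z ∈ _
      rw [sub_self]; exact zero_mem _
  obtain ⟨ee, hee₁, hee₂⟩ := exists_gr_iso hcovR hcovA hker₁
  -- truncations
  let tR : ∀ n, A₂ →ₐ[k] R ⧸ mR ^ n := fun n => (Ideal.Quotient.mkₐ k (mR ^ n)).comp πR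
  let tA : ∀ n, A₂ →ₐ[k] A ⧸ m ^ n := fun n => (Ideal.Quotient.mkₐ k (m ^ n)).comp πA
  have htR : ∀ n, Function.Surjective (tR n) := fun n y => by
    obtain ⟨u, rfl⟩ := Ideal.Quotient.mk_surjective y
    obtain ⟨v, rfl⟩ := hq u
    obtain ⟨z, hz⟩ := hco.exists_near n v
    refine ⟨z, (Ideal.Quotient.eq.2 ?_).symm⟩
    show q v - q (h₂ z) ∈ _
    rw [← map_sub, ← hmR, ← Ideal.map_pow]
    exact Ideal.mem_map_of_mem q hz
  have htA : ∀ n, Function.Surjective (tA n) := fun n =>
    Ideal.Quotient.mk_surjective.comp Ideal.Quotient.mk_surjective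
  have hmax : m.IsMaximal := by
    have hsurjε : Function.Surjective (MvPowerSeries.constantCoeff.comp h₂.toRingHom : A₂ →+* k) :=
      fun t => ⟨algebraMap k A₂ t, by
        show MvPowerSeries.constantCoeff (h₂ (algebraMap k A₂ t)) = t
        rw [AlgHom.commutes]
        exact MvPowerSeries.constantCoeff_C t⟩
    have hmAmax : mA.IsMaximal := by
      have e1 : mA = RingHom.ker (MvPowerSeries.constantCoeff.comp h₂.toRingHom : A₂ →+* k) := by
        ext z; exact mem_max_iff (h₂ z)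
      rw [e1]
      exact RingHom.ker_isMaximal_of_surjective _ hsurjε
    refine (Ideal.map_eq_top_or_isMaximal_of_surjective _ Ideal.Quotient.mk_surjective hmAmax).resolve_left
      fun htop => hmAmax.ne_top ?_
    have h1 := congrArg (Ideal.comap (Ideal.Quotient.mk JA)) htop
    rw [Ideal.comap_map_of_surjective' _ Ideal.Quotient.mk_surjective, Ideal.mk_ker, Ideal.comap_top] at h1
    refine (sup_eq_left.2 (Ideal.span_le.2 ?_)).symm.trans h1
    rintro _ ⟨i, rfl⟩
    show h₂ (Fi i) ∈ mP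
    have h2 : f i ∈ mP := Ideal.pow_le_self two_ne_zero (hq2 (hfL.le ⟨Pi.single i 1, by simp [fL, Fintype.linearCombination_apply_single]⟩))
    simpa using sub_mem h2 (Ideal.pow_le_self (by omega) (hnear ⟨_, hfm i⟩) : (f i) - h₂ (Fi i) ∈ mP)
  have hressurj : Function.Surjective (fun t : k => Ideal.Quotient.mk m (algebraMap k A t)) := fun z => by
    obtain ⟨z, rfl⟩ := Ideal.Quotient.mk_surjective z
    obtain ⟨z, rfl⟩ := Ideal.Quotient.mk_surjective z
    refine ⟨MvPowerSeries.constantCoeff (h₂ z), (Ideal.Quotient.eq.2 ?_).symm⟩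
    rw [← Ideal.Quotient.mk_algebraMap, ← map_sub]
    exact Ideal.mem_map_of_mem _ (sub_const_mem h₂ z)
  -- the comparison of truncations
  have hk : RingHom.ker (tR (N + 1)) = RingHom.ker (tA (N + 1)) := by
    ext z
    simp only [RingHom.mem_ker]
    show Ideal.Quotient.mk _ (πR z) = 0 ↔ Ideal.Quotient.mk _ (πA z) = 0
    rw [Ideal.Quotient.eq_zero_iff_mem, Ideal.Quotient.eq_zero_iff_mem]
    exact hkerN _ (by omega) z
  let φ : (R ⧸ mR ^ (N + 1)) ≃ₐ[k] (A ⧸ m ^ (N + 1)) :=
    (Ideal.quotientKerAlgEquivOfSurjective (htR (N + 1))).symm.trans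
      ((Ideal.quotientEquivAlgOfEq k hk).trans (Ideal.quotientKerAlgEquivOfSurjective (htA (N + 1))))
  have hφ : ∀ z, φ (tR (N + 1) z) = tA (N + 1) z := fun z => by
    show (Ideal.quotientKerAlgEquivOfSurjective (htA (N + 1))) ((Ideal.quotientEquivAlgOfEq k hk)
      ((Ideal.quotientKerAlgEquivOfSurjective (htR (N + 1))).symm (tR (N + 1) z))) = _
    rw [show (Ideal.quotientKerAlgEquivOfSurjective (htR (N + 1))).symm (tR (N + 1) z) = Ideal.Quotient.mk _ z from
      (AlgEquiv.symm_apply_eq _).2 rfl]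
    rfl
  -- the family
  let c₂ : Fin l → A₂ := fun i => gA ⟨_, hcm i⟩
  have hγ0 : ∀ p, ρ p = 0 → (πA.comp (MvPolynomial.aeval c₂)) p = 0 := fun p hp => by
    have hp' : p ∈ Ideal.span (Set.range qt) := by rw [Ideal.span, hqt]; exact hp
    have hle : Ideal.span (Set.range qt) ≤ RingHom.ker (πA.comp (MvPolynomial.aeval c₂)) := by
      rw [Ideal.span_le]
      rintro _ ⟨t, rfl⟩
      show πA (MvPolynomial.aeval c₂ (qt t)) = 0
      have h1 : MvPolynomial.aeval (fun i => (⟨_, hcm i⟩ : C0)) (qt t) = ∑ i, ⟨_, hdm t i⟩ * ⟨_, hfm i⟩ := by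
        refine Subtype.ext ?_
        show C0.val _ = _
        rw [MvPolynomial.comp_aeval_apply, AddSubmonoidClass.coe_finsetSum]
        exact (hdt t).trans (by simp [fL, Fintype.linearCombination_apply])
      have h2 := congrArg gA h1
      rw [MvPolynomial.comp_aeval_apply, map_sum] at h2
      rw [show MvPolynomial.aeval c₂ (qt t) = _ from h2]
      show Ideal.Quotient.mk JA _ = 0
      rw [Ideal.Quotient.eq_zero_iff_mem]
      exact sum_mem fun i _ => by rw [map_mul]; exact Ideal.mul_mem_left _ _ (Ideal.subset_span ⟨i, rfl⟩)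
    exact hle hp'
  let γ : S →ₐ[k] A := (Ideal.Quotient.liftₐ (RingHom.ker ρ) (πA.comp (MvPolynomial.aeval c₂))
    fun p hp => hγ0 p hp).comp (Ideal.quotientKerAlgEquivOfSurjective hρ).symm.toAlgHom
  have hγ : γ.comp ρ = πA.comp (MvPolynomial.aeval c₂) := AlgHom.ext fun p => by
    have h0 : (Ideal.quotientKerAlgEquivOfSurjective hρ).symm (ρ p) = Ideal.Quotient.mk _ p :=
      (AlgEquiv.symm_apply_eq _).2 rfl
    simp only [γ, AlgHom.comp_apply, AlgEquiv.coe_toAlgHom, h0]
    rfl
  have hcomm : (φ.toAlgHom.comp (Ideal.Quotient.mkₐ k (mR ^ (N + 1)))).comp S.val =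
      (Ideal.Quotient.mkₐ k (m ^ (N + 1))).comp γ := by
    refine (AlgHom.cancel_right hρ).1 ?_
    simp only [AlgHom.comp_assoc, hγ]
    rw [← hqc]
    refine MvPolynomial.algHom_ext fun i => ?_
    simp only [AlgHom.comp_apply, MvPolynomial.aeval_X]
    show φ (Ideal.Quotient.mk _ (q (c i))) = tA (N + 1) (c₂ i)
    rw [← hφ]
    congr 1
    show Ideal.Quotient.mk _ (q (c i)) = Ideal.Quotient.mk _ (q (h₂ (c₂ i)))
    rw [Ideal.Quotient.eq, ← map_sub, ← hmR, ← Ideal.map_pow]
    exact Ideal.mem_map_of_mem q (Ideal.pow_le_pow_right (by omega) (hnear ⟨_, hcm i⟩))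
  refine ⟨A, inferInstance, inferInstance, inferInstance, m, hmax, hressurj,
    F.map (CommAlgCat.ofHom γ) ξ₀, φ, ?_, ?_, ee, hee₁, fun t => ?_⟩
  · rw [← hξ₀, ← FunctorToTypes.map_comp_apply, ← FunctorToTypes.map_comp_apply]
    exact congrArg (fun u => F.map (CommAlgCat.ofHom u) ξ₀) hcomm
  · intro n
    let KR : ℕ → Ideal A₂ := fun n => RingHom.ker (tR n)
    let KA : ℕ → Ideal A₂ := fun n => RingHom.ker (tA n)
    have hKR : ∀ n z, z ∈ KR n ↔ πR z ∈ mR ^ n := fun n z => Ideal.Quotient.eq_zero_iff_mem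
    have hKA : ∀ n z, z ∈ KA n ↔ πA z ∈ m ^ n := fun n z => Ideal.Quotient.eq_zero_iff_mem
    have hle : ∀ n, mA ^ n ≤ KR n ∧ mA ^ n ≤ KA n := fun n =>
      ⟨fun z hz => (hKR n z).2 (hcovR.map_le n z hz), fun z hz => (hKA n z).2 (hcovA.map_le n z hz)⟩
    have hfin : ∀ (n : ℕ) (K : Ideal A₂), mA ^ n ≤ K → Module.Finite k (A₂ ⧸ K) := fun n K hK => by
      have := hco.finite_quotient n
      exact Module.Finite.of_surjective (Ideal.Quotient.factorₐ k hK).toLinearMap (Ideal.Quotient.factor_surjective hK)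
    have hrec : ∀ (n : ℕ), KR n = KR (n + 1) ⊔ mA ^ n ∧ KA n = KA (n + 1) ⊔ mA ^ n := by
      refine fun n => ⟨le_antisymm (fun z hz => ?_) (sup_le (fun z hz => ?_) (hle n).1),
        le_antisymm (fun z hz => ?_) (sup_le (fun z hz => ?_) (hle n).2)⟩
      · obtain ⟨u, hu, hu'⟩ := hcovR.lift n _ ((hKR n z).1 hz)
        exact Submodule.mem_sup.2 ⟨z - u, (hKR _ _).2 (by rw [map_sub]; exact hu'), u, hu, sub_add_cancel _ _⟩
      · exact (hKR _ _).2 (Ideal.pow_le_pow_right n.le_succ ((hKR _ _).1 hz))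
      · obtain ⟨u, hu, hu'⟩ := hcovA.lift n _ ((hKA n z).1 hz)
        exact Submodule.mem_sup.2 ⟨z - u, (hKA _ _).2 (by rw [map_sub]; exact hu'), u, hu, sub_add_cancel _ _⟩
      · exact (hKA _ _).2 (Ideal.pow_le_pow_right n.le_succ ((hKA _ _).1 hz))
    have hdim : ∀ n, Module.finrank k (A₂ ⧸ KR n) = Module.finrank k (A₂ ⧸ KA n) := fun n => by
      induction n with
      | zero =>
        rw [show KR 0 = KA 0 from SetLike.ext fun z => by rw [hKR, hKA]; exact hkerN 0 (Nat.zero_le _) z]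
      | succ n ih =>
        have := hfin (n + 1) _ (hle (n + 1)).1
        have := hfin (n + 1) _ (hle (n + 1)).2
        rw [finrank_quotient_of_sup (k := k) (le_sup_left.trans (hrec n).1.ge) (hrec n).1,
          finrank_quotient_of_sup (k := k) (le_sup_left.trans (hrec n).2.ge) (hrec n).2, ih,
          show KR (n + 1) ⊓ mA ^ n = KA (n + 1) ⊓ mA ^ n from SetLike.ext fun z =>
            ⟨fun hz => Submodule.mem_inf.2 ⟨(hKA _ _).2 ((hker₁ n z (Submodule.mem_inf.1 hz).2).1
                ((hKR _ _).1 (Submodule.mem_inf.1 hz).1)), (Submodule.mem_inf.1 hz).2⟩,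
              fun hz => Submodule.mem_inf.2 ⟨(hKR _ _).2 ((hker₁ n z (Submodule.mem_inf.1 hz).2).2
                ((hKA _ _).1 (Submodule.mem_inf.1 hz).1)), (Submodule.mem_inf.1 hz).2⟩⟩]
    let eR := Ideal.quotientKerAlgEquivOfSurjective (htR n)
    let eA := Ideal.quotientKerAlgEquivOfSurjective (htA n)
    have := hfin n _ (hle n).1
    have := hfin n _ (hle n).2
    refine ⟨Module.Finite.equiv eR.toLinearEquiv, Module.Finite.equiv eA.toLinearEquiv, ?_⟩
    rw [← eR.toLinearEquiv.finrank_eq, ← eA.toLinearEquiv.finrank_eq]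
    exact hdim n
  · have := hee₂ (algebraMap k A₂ t)
    simpa using this

end Groth.Agent.AlgzApx
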