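import Groth.Agent.AlgzApx.Factor

/-!
# Approximating a power series point of a smooth algebra by a section
-/

set_option autoImplicit false

universe u

open IsLocalRing MvPowerSeries

set_option backward.isDefEq.respectTransparency false

namespace Groth.Agent.AlgzApx

variable {k : Type u} [Field k] {d : ℕ}

local notation "𝔪" => maximalIdeal (MvPowerSeries (Fin d) k)

/-- polynomials are dense in power series -/
theorem exists_poly_near (C : ℕ) : ∀ z : MvPowerSeries (Fin d) k,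
    ∃ p : MvPolynomial (Fin d) k, z - MvPolynomial.aeval (fun i => (X i : MvPowerSeries (Fin d) k)) p ∈ 𝔪 ^ C := by
  induction C with
  | zero => exact fun z => ⟨0, by simp⟩
  | succ C ih =>
    intro z
    obtain ⟨g, hg⟩ := (Ideal.mem_span_range_iff_exists_fun).1 (ArtPow.sub_C_constantCoeff_mem z)
    choose p hp using fun i => ih (g i)
    refine ⟨MvPolynomial.C (constantCoeff z) + ∑ i, p i * MvPolynomial.X i, ?_⟩
    have e : z - MvPolynomial.aeval (fun i => (X i : MvPowerSeries (Fin d) k))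
        (MvPolynomial.C (constantCoeff z) + ∑ i, p i * MvPolynomial.X i) =
        ∑ i, (g i - MvPolynomial.aeval (fun i => (X i : MvPowerSeries (Fin d) k)) (p i)) * X i := by
      rw [map_add, map_sum, MvPolynomial.aeval_C, MvPowerSeries.algebraMap_apply, Algebra.algebraMap_self,
        RingHom.id_apply, ← sub_sub, ← hg, ← Finset.sum_sub_distrib]
      refine Finset.sum_congr rfl fun i _ => ?_
      rw [map_mul, MvPolynomial.aeval_X, sub_mul]
    rw [e, pow_succ]
    exact sum_mem fun i _ => Ideal.mul_mem_mul (hp i)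
      (ArtPow.span_X_eq_maximalIdeal (k := k).le (Ideal.subset_span ⟨i, rfl⟩))

theorem X_mem (i : Fin d) : (X i : MvPowerSeries (Fin d) k) ∈ 𝔪 :=
  ArtPow.span_X_eq_maximalIdeal (k := k).le (Ideal.subset_span ⟨i, rfl⟩)

theorem mem_max_iff (f : MvPowerSeries (Fin d) k) : f ∈ 𝔪 ↔ constantCoeff f = 0 := by
  rw [mem_maximalIdeal, mem_nonunits_iff, isUnit_iff_constantCoeff, isUnit_iff_ne_zero, not_not]

theorem coeff_single_mul (i : Fin d) (a b : MvPowerSeries (Fin d) k) :
    coeff (Finsupp.single i 1) (a * b) =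
      constantCoeff a * coeff (Finsupp.single i 1) b + coeff (Finsupp.single i 1) a * constantCoeff b := by
  classical
  rw [coeff_mul, Finsupp.antidiagonal_single]
  simp [Finset.Nat.antidiagonal_succ, coeff_zero_eq_constantCoeff_apply]

theorem coeff_single_of_mem_sq (i : Fin d) {a : MvPowerSeries (Fin d) k} (ha : a ∈ 𝔪 ^ 2) :
    coeff (Finsupp.single i 1) a = 0 := by
  rw [pow_two] at ha
  refine Submodule.mul_induction_on ha (fun x hx y hy => ?_) (fun x y hx hy => by rw [map_add, hx, hy, add_zero])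
  rw [coeff_single_mul, (mem_max_iff x).1 hx, (mem_max_iff y).1 hy, zero_mul, mul_zero, add_zero]

/-- a formally smooth algebra at a power series point: equations and the section through them -/
theorem exists_section {B : Type u} [CommRing B] [Algebra k B] [Algebra.FiniteType k B] [Algebra.FormallySmooth k B]
    (h : B →ₐ[k] MvPowerSeries (Fin d) k) (X' : Fin d → B) (hX : ∀ i, h (X' i) = X i) (C : ℕ) (hC : 2 ≤ C) :
    ∃ (e : ℕ) (y : Fin e → B) (h' : B →ₐ[k] MvPowerSeries (Fin d) k), (∀ i, h' (X' i) = X i) ∧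
      (∀ j, h' (y j) = 0) ∧ (∀ b, h b - h' b ∈ 𝔪 ^ C) ∧
      Ideal.comap h 𝔪 = Ideal.span (Set.range X') ⊔ Ideal.span (Set.range y) ⊔ (Ideal.comap h 𝔪) ^ 2 := by
  classical
  haveI : IsNoetherianRing B := Algebra.FiniteType.isNoetherianRing k B
  let mb := Ideal.comap h 𝔪
  let ε : B → k := fun b => constantCoeff (h b)
  have hεC : ∀ c : k, ε (algebraMap k B c) = c := fun c => by
    simp [ε, MvPowerSeries.algebraMap_apply]
  have hmb : ∀ b, b ∈ mb ↔ ε b = 0 := fun b => mem_max_iff (h b)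
  have hεmul : ∀ a b, ε (a * b) = ε a * ε b := fun a b => by simp [ε]
  have hsub : ∀ b, b - algebraMap k B (ε b) ∈ mb := fun b => by
    rw [hmb]; simp [ε, MvPowerSeries.algebraMap_apply]
  have hXm : ∀ i, X' i ∈ mb := fun i => by
    show h (X' i) ∈ 𝔪
    rw [hX]; exact X_mem i
  -- the quotient by the span of the coordinates
  let N : Submodule k B := Submodule.span k ({1} ∪ Set.range X') ⊔ (mb ^ 2).restrictScalars k
  have h1N : ∀ c : k, algebraMap k B c ∈ N := fun c => Submodule.mem_sup_left (by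
    rw [Algebra.algebraMap_eq_smul_one]
    exact Submodule.smul_mem _ _ (Submodule.subset_span (Or.inl rfl)))
  have hXN : ∀ (b : B) i, b * X' i ∈ N := fun b i => by
    rw [show b * X' i = (b - algebraMap k B (ε b)) * X' i + algebraMap k B (ε b) * X' i by ring]
    refine add_mem (Submodule.mem_sup_right ?_) (Submodule.mem_sup_left ?_)
    · rw [Submodule.restrictScalars_mem, pow_two]
      exact Ideal.mul_mem_mul (hsub b) (hXm i)
    · rw [← Algebra.smul_def]
      exact Submodule.smul_mem _ _ (Submodule.subset_span (Or.inr ⟨i, rfl⟩))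
  have hpN : ∀ p : MvPolynomial (Fin d) k, MvPolynomial.aeval X' p ∈ N := fun p => by
    induction p using MvPolynomial.induction_on with
    | C c => rw [MvPolynomial.aeval_C]; exact h1N c
    | add p q hp hq => rw [map_add]; exact add_mem hp hq
    | mul_X p i _ => rw [map_mul, MvPolynomial.aeval_X]; exact hXN _ i
  haveI : Module.Finite k (B ⧸ N) := by
    obtain ⟨s, hs⟩ := (IsNoetherian.noetherian mb : mb.FG)
    refine ⟨⟨s.image N.mkQ, top_le_iff.1 fun q _ => ?_⟩⟩
    obtain ⟨b, rfl⟩ := N.mkQ_surjective q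
    have hb : b - algebraMap k B (ε b) ∈ Submodule.span B (s : Set B) := hs.symm ▸ hsub b
    obtain ⟨c, -, hc⟩ := Submodule.mem_span_finset.1 hb
    have e : N.mkQ b = ∑ g ∈ s, ε (c g) • N.mkQ g := by
      simp only [← map_smul, ← map_sum]
      refine (Submodule.Quotient.eq N).2 ?_
      rw [show b - ∑ g ∈ s, ε (c g) • g = algebraMap k B (ε b) + ∑ g ∈ s, (c g - algebraMap k B (ε (c g))) * g by
        simp only [sub_mul, Finset.sum_sub_distrib, ← Algebra.smul_def]
        simp only [smul_eq_mul] at hc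
        rw [hc]; ring]
      refine add_mem (h1N _) (Submodule.mem_sup_right ?_)
      rw [Submodule.restrictScalars_mem, pow_two]
      exact sum_mem fun g hg => Ideal.mul_mem_mul (hsub _) (hs ▸ Submodule.subset_span hg)
    rw [e]
    exact sum_mem fun g hg => Submodule.smul_mem _ _ (Submodule.subset_span (Finset.mem_image_of_mem _ hg))
  let bas := Module.finBasis k (B ⧸ N)
  choose y₀ hy₀ using fun j => N.mkQ_surjective (bas j)
  choose p hp using fun j => exists_poly_near (k := k) (d := d) C (h (y₀ j))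
  let y : Fin (Module.finrank k (B ⧸ N)) → B := fun j => y₀ j - MvPolynomial.aeval X' (p j)
  have hyC : ∀ j, h (y j) ∈ 𝔪 ^ C := fun j => by
    show h (y₀ j - MvPolynomial.aeval X' (p j)) ∈ _
    rw [map_sub, MvPolynomial.comp_aeval_apply]
    simpa only [hX] using hp j
  have hym : ∀ j, y j ∈ mb := fun j => (Ideal.pow_le_self (by omega) (hyC j) : _)
  have hyQ : ∀ j, N.mkQ (y j) = bas j := fun j => by
    show N.mkQ (y₀ j - _) = _
    rw [map_sub, hy₀, (Submodule.Quotient.mk_eq_zero N).2 (hpN _) |> fun e => (show N.mkQ _ = 0 from e), sub_zero]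
  -- the derivations
  let L : Fin d → (B →ₗ[k] k) := fun i => (MvPowerSeries.coeff (Finsupp.single i 1)).comp h.toLinearMap
  let D : Fin (Module.finrank k (B ⧸ N)) → (B →ₗ[k] k) := fun j => (bas.coord j).comp N.mkQ
  have hLmul : ∀ i a b, L i (a * b) = ε a * L i b + L i a * ε b := fun i a b => by
    simp [L, ε, coeff_single_mul]
  have hDmul : ∀ j a b, D j (a * b) = ε a * D j b + D j a * ε b := fun j a b => by
    have h0 : N.mkQ ((a - algebraMap k B (ε a)) * (b - algebraMap k B (ε b))) = 0 :=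
      (Submodule.Quotient.mk_eq_zero N).2 (Submodule.mem_sup_right (by
        rw [Submodule.restrictScalars_mem, pow_two]; exact Ideal.mul_mem_mul (hsub a) (hsub b)))
    rw [show (a - algebraMap k B (ε a)) * (b - algebraMap k B (ε b)) =
      a * b - (ε a • b + ε b • a) + algebraMap k B (ε a * ε b) by
        rw [map_mul, Algebra.smul_def, Algebra.smul_def]; ring] at h0
    simp only [map_add, map_sub, map_smul, show N.mkQ (algebraMap k B (ε a * ε b)) = 0 from
      (Submodule.Quotient.mk_eq_zero N).2 (h1N _), add_zero, sub_eq_zero] at h0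
    simp [D, h0, mul_comm]
  have hLX : ∀ i l, L i (X' l) = if l = i then 1 else 0 := fun i l => by
    simp only [L, LinearMap.comp_apply, AlgHom.toLinearMap_apply, hX, MvPowerSeries.coeff_X]
    simp [Finsupp.single_left_inj, eq_comm]
  have hLy : ∀ i j, L i (y j) = 0 := fun i j =>
    coeff_single_of_mem_sq i (Ideal.pow_le_pow_right hC (hyC j))
  have hDX : ∀ j l, D j (X' l) = 0 := fun j l => by
    simp only [D, LinearMap.comp_apply]
    rw [show N.mkQ (X' l) = 0 from (Submodule.Quotient.mk_eq_zero N).2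
      (Submodule.mem_sup_left (Submodule.subset_span (Or.inr ⟨l, rfl⟩))), map_zero]
  have hDy : ∀ j l, D j (y l) = if l = j then 1 else 0 := fun j l => by
    simp only [D, LinearMap.comp_apply, hyQ, Module.Basis.coord_apply, Module.Basis.repr_self,
      Finsupp.single_apply]
  -- the lifting step
  let Q : ℕ → Type u := fun n => MvPowerSeries (Fin d) k ⧸ 𝔪 ^ n
  let π₁ : ∀ n, (MvPowerSeries (Fin d) k ⧸ 𝔪 ^ (n + 2)) →ₐ[k] (MvPowerSeries (Fin d) k ⧸ 𝔪 ^ (n + 1)) :=
    fun n => { Ideal.Quotient.factorPow 𝔪 (Nat.le_succ (n + 1)) with commutes' := fun _ => rfl }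
  have hπ₁ : ∀ n x, π₁ n (Ideal.Quotient.mk _ x) = Ideal.Quotient.mk _ x := fun n x => rfl
  let ρ : (n : ℕ) → (B →ₐ[k] MvPowerSeries (Fin d) k ⧸ 𝔪 ^ (n + 1)) → Prop := fun n ψ =>
    (∀ i, ψ (X' i) = Ideal.Quotient.mk _ (X i)) ∧ (∀ j, ψ (y j) = 0) ∧
      ∀ b, ∀ z, ψ b = Ideal.Quotient.mk _ z → z - algebraMap k _ (ε b) ∈ 𝔪
  have step : ∀ n (ψ : B →ₐ[k] MvPowerSeries (Fin d) k ⧸ 𝔪 ^ (n + 1)), ρ n ψ →
      ∃ ψ' : B →ₐ[k] MvPowerSeries (Fin d) k ⧸ 𝔪 ^ (n + 2), ρ (n + 1) ψ' ∧ (π₁ n).comp ψ' = ψ := by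
    intro n ψ hψ
    have hker : ∀ q, π₁ n q = 0 → q ∈ (𝔪 ^ (n + 1)).map (Ideal.Quotient.mk (𝔪 ^ (n + 2))) := fun q hq => by
      obtain ⟨z, rfl⟩ := Ideal.Quotient.mk_surjective q
      exact Ideal.mem_map_of_mem _ (Ideal.Quotient.eq_zero_iff_mem.1 hq)
    have hnil : IsNilpotent (RingHom.ker (π₁ n).toRingHom) := by
      refine ⟨n + 2, le_bot_iff.1 ((Ideal.pow_right_mono (I := RingHom.ker (π₁ n).toRingHom)
        (J := Ideal.map (Ideal.Quotient.mk (𝔪 ^ (n + 2))) 𝔪) (fun q hq => ?_) _).trans ?_)⟩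
      · exact Ideal.map_mono (Ideal.pow_le_self (Nat.succ_ne_zero n)) (hker q hq)
      · rw [← Ideal.map_pow, Ideal.map_quotient_self]
    have hsurj : Function.Surjective (π₁ n) := fun q => by
      obtain ⟨z, rfl⟩ := Ideal.Quotient.mk_surjective q
      exact ⟨_, hπ₁ n z⟩
    let φ := Algebra.FormallySmooth.liftOfSurjective ψ (π₁ n) hsurj hnil
    have hφ : ∀ b, π₁ n (φ b) = ψ b := Algebra.FormallySmooth.liftOfSurjective_apply ψ (π₁ n) hsurj hnil
    -- small elements
    have hmul : ∀ (u : MvPowerSeries (Fin d) k ⧸ 𝔪 ^ (n + 2)) b, π₁ n u = 0 → φ b * u = ε b • u := fun u b hu => by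
      obtain ⟨z, hz⟩ := Ideal.Quotient.mk_surjective u
      obtain ⟨w, hw⟩ := Ideal.Quotient.mk_surjective (φ b)
      have hzm : z ∈ 𝔪 ^ (n + 1) := Ideal.Quotient.eq_zero_iff_mem.1 (by rw [← hπ₁, hz, hu])
      have hwm : w - algebraMap k _ (ε b) ∈ 𝔪 := hψ.2.2 b w (by rw [← hφ, ← hw, hπ₁])
      rw [← sub_eq_zero, ← hz, ← hw, Algebra.smul_def, ← Ideal.Quotient.mk_algebraMap, ← map_mul, ← map_mul,
        ← map_sub, ← sub_mul, Ideal.Quotient.eq_zero_iff_mem, show n + 2 = 1 + (n + 1) by omega, pow_add, pow_one]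
      exact Ideal.mul_mem_mul hwm hzm
    have hmul0 : ∀ u v : MvPowerSeries (Fin d) k ⧸ 𝔪 ^ (n + 2), π₁ n u = 0 → π₁ n v = 0 → u * v = 0 :=
      fun u v hu hv => by
        obtain ⟨z, rfl⟩ := Ideal.Quotient.mk_surjective u
        obtain ⟨w, rfl⟩ := Ideal.Quotient.mk_surjective v
        rw [hπ₁, Ideal.Quotient.eq_zero_iff_mem] at hu hv
        rw [← map_mul, Ideal.Quotient.eq_zero_iff_mem]
        exact Ideal.pow_le_pow_right (by omega) (pow_add 𝔪 (n + 1) (n + 1) ▸ Ideal.mul_mem_mul hu hv)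
    let εX : Fin d → MvPowerSeries (Fin d) k ⧸ 𝔪 ^ (n + 2) := fun i => Ideal.Quotient.mk _ (X i) - φ (X' i)
    let εy : Fin (Module.finrank k (B ⧸ N)) → MvPowerSeries (Fin d) k ⧸ 𝔪 ^ (n + 2) := fun j => - φ (y j)
    have hεX : ∀ i, π₁ n (εX i) = 0 := fun i => by simp only [εX, map_sub, hφ, hπ₁, hψ.1, sub_self]
    have hεy : ∀ j, π₁ n (εy j) = 0 := fun j => by simp only [εy, map_neg, hφ, hψ.2.1, neg_zero]
    let δ : B →ₗ[k] MvPowerSeries (Fin d) k ⧸ 𝔪 ^ (n + 2) :=
      (∑ i, (L i).smulRight (εX i)) + ∑ j, (D j).smulRight (εy j)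
    have hδ : ∀ b, δ b = (∑ i, L i b • εX i) + ∑ j, D j b • εy j := fun b => by simp [δ]
    have hδ0 : ∀ b, π₁ n (δ b) = 0 := fun b => by simp [hδ, hεX, hεy]
    have hδmul : ∀ a b, δ (a * b) = ε a • δ b + ε b • δ a := fun a b => by
      simp only [hδ, hLmul, hDmul, add_smul, smul_add, smul_smul, Finset.sum_add_distrib, Finset.smul_sum,
        mul_comm]
      abel
    have hδ1 : δ 1 = 0 := by
      have := hδmul 1 1
      rw [mul_one, show ε 1 = 1 by simp [ε], one_smul] at this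
      simpa using this
    let ψ' : B →ₐ[k] MvPowerSeries (Fin d) k ⧸ 𝔪 ^ (n + 2) := AlgHom.ofLinearMap (φ.toLinearMap + δ)
      (by simp [hδ1])
      (fun a b => by
        simp only [LinearMap.add_apply, AlgHom.toLinearMap_apply, map_mul, hδmul, add_mul, mul_add,
          hmul0 _ _ (hδ0 a) (hδ0 b)]
        rw [hmul _ a (hδ0 b), mul_comm (δ a) (φ b), hmul _ b (hδ0 a)]
        abel)
    have hψ'π : ∀ b, π₁ n (ψ' b) = ψ b := fun b => by
      show π₁ n (φ b + δ b) = _
      rw [map_add, hφ, hδ0, add_zero]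
    refine ⟨ψ', ⟨fun i => ?_, fun j => ?_, fun b z hz => ?_⟩, AlgHom.ext hψ'π⟩
    · show φ (X' i) + δ (X' i) = _
      simp [hδ, hLX, hDX, εX]
    · show φ (y j) + δ (y j) = _
      simp [hδ, hLy, hDy, εy]
    · exact hψ.2.2 b z (by rw [← hψ'π, hz, hπ₁])
  -- the base of the induction
  let ψ₁ : B →ₐ[k] MvPowerSeries (Fin d) k ⧸ 𝔪 ^ (0 + 1) := (Ideal.Quotient.mkₐ k _).comp h
  have hψ₁ : ρ 0 ψ₁ := by
    refine ⟨fun i => by simp [ψ₁, hX], fun j => ?_, fun b z hz => ?_⟩
    · show Ideal.Quotient.mk _ (h (y j)) = 0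
      rw [Ideal.Quotient.eq_zero_iff_mem]
      exact Ideal.pow_le_pow_right (by omega) (hyC j)
    · have h2 : h b - z ∈ 𝔪 := by
        have := Ideal.Quotient.eq.1 (show Ideal.Quotient.mk (𝔪 ^ (0 + 1)) (h b) = Ideal.Quotient.mk _ z from hz)
        simpa using this
      have h3 : h b - algebraMap k _ (ε b) ∈ 𝔪 := by
        rw [mem_max_iff]; simp [ε, MvPowerSeries.algebraMap_apply]
      simpa using sub_mem h3 h2
  choose nx hnx₁ hnx₂ using step
  let g : (n : ℕ) → {ψ : B →ₐ[k] MvPowerSeries (Fin d) k ⧸ 𝔪 ^ (n + 1) // ρ n ψ} := fun n =>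
    Nat.rec ⟨ψ₁, hψ₁⟩ (fun n ψ => ⟨nx n ψ.1 ψ.2, hnx₁ n ψ.1 ψ.2⟩) n
  have hg : ∀ n b, π₁ n ((g (n + 1)).1 b) = (g n).1 b := fun n b =>
    DFunLike.congr_fun (hnx₂ n (g n).1 (g n).2) b
  have hcompat : ∀ {m n : ℕ} (hle : m ≤ n) b,
      Ideal.Quotient.factorPow 𝔪 (Nat.succ_le_succ hle) ((g n).1 b) = (g m).1 b := by
    intro m n hle
    induction hle with
    | refl =>
      intro b
      obtain ⟨z, hz⟩ := Ideal.Quotient.mk_surjective ((g m).1 b)
      rw [← hz]; rfl
    | @step n hle ih =>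
      intro b
      rw [← ih b, ← hg n b]
      obtain ⟨z, hz⟩ := Ideal.Quotient.mk_surjective ((g (n + 1)).1 b)
      rw [← hz]; rfl
  haveI := ArtObs.isAdicComplete_ps k d
  let f : ∀ n, B →+* MvPowerSeries (Fin d) k ⧸ 𝔪 ^ n := fun n =>
    (Ideal.Quotient.factorPow 𝔪 (Nat.le_succ n)).comp (g n).1.toRingHom
  have hf : ∀ {m n : ℕ} (hle : m ≤ n), (Ideal.Quotient.factorPow 𝔪 hle).comp (f n) = f m := fun {m n} hle => by
    refine RingHom.ext fun b => ?_
    show Ideal.Quotient.factorPow 𝔪 hle (Ideal.Quotient.factorPow 𝔪 (Nat.le_succ n) ((g n).1 b)) =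
      Ideal.Quotient.factorPow 𝔪 (Nat.le_succ m) ((g m).1 b)
    rw [← hcompat hle b]
    obtain ⟨z, hz⟩ := Ideal.Quotient.mk_surjective ((g n).1 b)
    rw [← hz]; rfl
  let h₀ := IsAdicComplete.liftRingHom 𝔪 f hf
  have hh₀ : ∀ n b, Ideal.Quotient.mk (𝔪 ^ n) (h₀ b) = f n b := fun n b =>
    IsAdicComplete.mk_liftRingHom 𝔪 f hf n b
  have heq : ∀ x z : MvPowerSeries (Fin d) k, (∀ n, Ideal.Quotient.mk (𝔪 ^ n) x = Ideal.Quotient.mk (𝔪 ^ n) z) →
      x = z := fun x z hxz => by
    refine sub_eq_zero.mp (IsHausdorff.haus' (I := 𝔪) _ fun n => ?_)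
    rw [SModEq.sub_mem, sub_zero, smul_eq_mul, Ideal.mul_top]
    exact Ideal.Quotient.eq.mp (hxz n)
  have hcomm : ∀ c, h₀ (algebraMap k B c) = algebraMap k (MvPowerSeries (Fin d) k) c := fun c =>
    heq _ _ fun n => by
      refine (hh₀ n _).trans ?_
      show Ideal.Quotient.factorPow 𝔪 (Nat.le_succ n) ((g n).1 (algebraMap k B c)) = _
      rw [AlgHom.commutes]; rfl
  let h' : B →ₐ[k] MvPowerSeries (Fin d) k := { h₀ with commutes' := hcomm }
  have hX' : ∀ i, h' (X' i) = X i := fun i => heq _ _ fun n => by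
    refine (hh₀ n _).trans ?_
    show Ideal.Quotient.factorPow 𝔪 (Nat.le_succ n) ((g n).1 (X' i)) = _
    rw [(g n).2.1 i]; rfl
  have hy' : ∀ j, h' (y j) = 0 := fun j => heq _ _ fun n => by
    refine (hh₀ n _).trans ?_
    show Ideal.Quotient.factorPow 𝔪 (Nat.le_succ n) ((g n).1 (y j)) = _
    rw [(g n).2.2.1 j, map_zero, map_zero]
  have h1 : ∀ b, h b - h' b ∈ 𝔪 := fun b => by
    have := hh₀ 1 b
    rw [show f 1 b = (g 0).1 b from (by
      show Ideal.Quotient.factorPow 𝔪 (Nat.le_succ 1) ((g 1).1 b) = _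
      rw [← hg 0 b]
      show Ideal.Quotient.factorPow 𝔪 (Nat.le_succ 1) ((g 1).1 b) = π₁ 0 ((g 1).1 b)
      obtain ⟨z, hz⟩ := Ideal.Quotient.mk_surjective ((g 1).1 b)
      rw [← hz]; rfl)] at this
    have h2 : h b - h' b ∈ 𝔪 ^ 1 := Ideal.Quotient.eq.1 this.symm
    simpa using h2
  -- the maximal ideal is generated by the coordinates and the equations modulo its square
  have hspan : mb = Ideal.span (Set.range X') ⊔ Ideal.span (Set.range y) ⊔ mb ^ 2 := by
    refine le_antisymm (fun b hb => ?_) (sup_le (sup_le ?_ ?_) (Ideal.pow_le_self two_ne_zero))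
    · have hNy : b - ∑ j, D j b • y j ∈ N := by
        rw [← Submodule.Quotient.mk_eq_zero, ← Submodule.mkQ_apply, map_sub, map_sum]
        simp only [map_smul, hyQ]
        rw [sub_eq_zero]
        exact (bas.sum_repr (N.mkQ b)).symm
      obtain ⟨s, hs, t, ht, hst⟩ := Submodule.mem_sup.1 hNy
      rw [Set.union_comm, Submodule.span_union] at hs
      obtain ⟨s₁, hs₁, c, hc, rfl⟩ := Submodule.mem_sup.1 hs
      obtain ⟨c, rfl⟩ := Submodule.mem_span_singleton.1 hc
      have hI : b - c • 1 ∈ Ideal.span (Set.range X') ⊔ Ideal.span (Set.range y) ⊔ mb ^ 2 := by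
        rw [show b - c • (1 : B) = s₁ + ∑ j, D j b • y j + t by
          linear_combination (norm := module) (-1 : k) • hst]
        refine add_mem (add_mem (Submodule.mem_sup_left (Submodule.mem_sup_left ?_)) (sum_mem fun j _ => ?_))
          (Submodule.mem_sup_right ht)
        · exact Submodule.span_le_restrictScalars k B _ hs₁
        · rw [Algebra.smul_def]
          exact Submodule.mem_sup_left (Submodule.mem_sup_right
            (Ideal.mul_mem_left _ _ (Ideal.subset_span ⟨j, rfl⟩)))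
      have hle : Ideal.span (Set.range X') ⊔ Ideal.span (Set.range y) ⊔ mb ^ 2 ≤ mb :=
        sup_le (sup_le (Ideal.span_le.2 (Set.range_subset_iff.2 hXm)) (Ideal.span_le.2 (Set.range_subset_iff.2 hym)))
          (Ideal.pow_le_self two_ne_zero)
      have hc0 : c = 0 := by
        have := (hmb _).1 (sub_mem hb (hle hI))
        simpa [ε] using this
      simpa [hc0] using hI
    · exact Ideal.span_le.2 (Set.range_subset_iff.2 hXm)
    · exact Ideal.span_le.2 (Set.range_subset_iff.2 hym)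
  refine ⟨_, y, h', hX', hy', fun b => ?_, hspan⟩
  -- congruence
  suffices key : ∀ n, n < C → ∀ b, h b - h' b ∈ 𝔪 ^ (n + 1) by
    obtain ⟨n, rfl⟩ : ∃ n, C = n + 1 := ⟨C - 1, by omega⟩
    exact key n (by omega) b
  intro n
  induction n with
  | zero => intro _ b; rw [zero_add, pow_one]; exact h1 b
  | succ n ih =>
    intro hn b
    let T : Submodule k B :=
      Submodule.comap (h.toLinearMap - h'.toLinearMap) ((𝔪 ^ (n + 2)).restrictScalars k)
    have hT : ∀ z, z ∈ T ↔ h z - h' z ∈ 𝔪 ^ (n + 2) := fun z => Iff.rfl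
    have hmm : ∀ u, ∀ z ∈ mb, h z - h' z ∈ 𝔪 ^ (n + 2) → u * z ∈ T := fun u z hz hzd => by
      rw [hT]
      rw [map_mul, map_mul, show h u * h z - h' u * h' z = (h u - h' u) * h z + h' u * (h z - h' z) by ring]
      refine add_mem ?_ (Ideal.mul_mem_left _ _ hzd)
      rw [show n + 2 = (n + 1) + 1 by omega, pow_succ]
      exact Ideal.mul_mem_mul (ih (by omega) u) hz
    have hmul2 : ∀ u ∈ mb, ∀ z ∈ mb, u * z ∈ T := fun u hu z hz => by
      rw [hT]
      rw [map_mul, map_mul, show h u * h z - h' u * h' z = (h u - h' u) * h z + h' u * (h z - h' z) by ring,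
        show n + 2 = (n + 1) + 1 by omega]
      refine add_mem (pow_succ 𝔪 (n + 1) ▸ Ideal.mul_mem_mul (ih (by omega) u) hz)
        (pow_succ' 𝔪 (n + 1) ▸ Ideal.mul_mem_mul ?_ (ih (by omega) z))
      simpa using sub_mem (show h u ∈ 𝔪 from hu) (h1 u)
    have hall : ∀ z ∈ mb, z ∈ T := fun z hz => by
      rw [hspan] at hz
      obtain ⟨w, hw, t, ht, rfl⟩ := Submodule.mem_sup.1 hz
      obtain ⟨w₁, hw₁, w₂, hw₂, rfl⟩ := Submodule.mem_sup.1 hw
      refine add_mem (add_mem ?_ ?_) ?_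
      · obtain ⟨c, rfl⟩ := Ideal.mem_span_range_iff_exists_fun.1 hw₁
        exact sum_mem fun i _ => hmm _ _ (hXm i) (by simp [hX, hX'])
      · obtain ⟨c, rfl⟩ := Ideal.mem_span_range_iff_exists_fun.1 hw₂
        exact sum_mem fun i _ => hmm _ _ (hym i) (by
          rw [hy', sub_zero]; exact Ideal.pow_le_pow_right (by omega) (hyC i))
      · rw [pow_two] at ht
        exact Submodule.mul_induction_on ht (fun u hu z hz => hmul2 u hu z hz) (fun u z hu hz => add_mem hu hz)
    have := (hT _).1 (hall _ (hsub b))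
    simpa using this

end Groth.Agent.AlgzApx
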