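import Groth.Agent.AlgzApx.Model
import Mathlib.RingTheory.AdicCompletion.Algebra

/-!
# Algebraization of versal formal families over an algebraically closed field
-/

set_option autoImplicit false

universe u

open CategoryTheory CategoryTheory.Limits

set_option backward.isDefEq.respectTransparency false

namespace Groth.Agent.AlgzApx

section local_quot

variable {k : Type u} [Field k] {A : Type u} [CommRing A] [Algebra k A] (m : Ideal A) [m.IsMaximal]

theorem map_mk_eq_maximal (n : ℕ) [IsLocalRing (A ⧸ m ^ (n + 1))] :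
    m.map (Ideal.Quotient.mk (m ^ (n + 1))) = IsLocalRing.maximalIdeal (A ⧸ m ^ (n + 1)) := by
  refine IsLocalRing.eq_maximalIdeal ((Ideal.map_eq_top_or_isMaximal_of_surjective _ Ideal.Quotient.mk_surjective
    ‹m.IsMaximal›).resolve_left fun h => ?_)
  have := congrArg (Ideal.comap (Ideal.Quotient.mk (m ^ (n + 1)))) h
  rw [Ideal.comap_map_of_surjective' _ Ideal.Quotient.mk_surjective, Ideal.mk_ker, Ideal.comap_top,
    sup_eq_left.2 (Ideal.pow_le_self n.succ_ne_zero)] at this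
  exact Ideal.IsMaximal.ne_top ‹m.IsMaximal› this

theorem isLocalRing_quot_pow (n : ℕ) : IsLocalRing (A ⧸ m ^ (n + 1)) := by
  refine IsLocalRing.of_unique_max_ideal ⟨m.map (Ideal.Quotient.mk (m ^ (n + 1))),
    (Ideal.map_eq_top_or_isMaximal_of_surjective _ Ideal.Quotient.mk_surjective ‹m.IsMaximal›).resolve_left
      (fun h => ?_), fun Q hQ => ?_⟩
  · have := congrArg (Ideal.comap (Ideal.Quotient.mk (m ^ (n + 1)))) h
    rw [Ideal.comap_map_of_surjective' _ Ideal.Quotient.mk_surjective, Ideal.mk_ker, Ideal.comap_top,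
      sup_eq_left.2 (Ideal.pow_le_self n.succ_ne_zero)] at this
    exact Ideal.IsMaximal.ne_top ‹m.IsMaximal› this
  · have h1 : m ≤ Q.comap (Ideal.Quotient.mk (m ^ (n + 1))) := fun z hz => by
      refine hQ.isPrime.mem_of_pow_mem (n + 1) ?_
      rw [← map_pow, Ideal.Quotient.eq_zero_iff_mem.2 (Ideal.pow_mem_pow hz (n + 1))]
      exact zero_mem _
    have h2 := (‹m.IsMaximal›).eq_of_le (Ideal.comap_ne_top _ hQ.ne_top) h1
    rw [← Ideal.map_comap_of_surjective _ Ideal.Quotient.mk_surjective Q]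
    exact congrArg (Ideal.map _) h2.symm

theorem residue_surjective_quot (hs : Function.Surjective (fun c : k => Ideal.Quotient.mk m (algebraMap k A c)))
    (n : ℕ) [IsLocalRing (A ⧸ m ^ (n + 1))] :
    Function.Surjective (fun c : k => IsLocalRing.residue (A ⧸ m ^ (n + 1)) (algebraMap k (A ⧸ m ^ (n + 1)) c)) := by
  intro y
  obtain ⟨y, rfl⟩ := IsLocalRing.residue_surjective y
  obtain ⟨a, rfl⟩ := Ideal.Quotient.mk_surjective y
  obtain ⟨c, hc⟩ := hs (Ideal.Quotient.mk m a)
  refine ⟨c, Ideal.Quotient.eq.2 ?_⟩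
  rw [← map_mk_eq_maximal, ← Ideal.Quotient.mk_algebraMap, ← map_sub]
  exact Ideal.mem_map_of_mem _ (Ideal.Quotient.eq.1 hc)

end local_quot

variable {k : Type u} [Field k]

/-- a map to a truncation which is surjective to first order is surjective -/
theorem surjective_of_first_order {R : Type u} [CommRing R] [Algebra k R] [IsLocalRing R] {A : Type u} [CommRing A]
    [Algebra k A] {m : Ideal A} [m.IsMaximal]
    (hs : Function.Surjective (fun c : k => Ideal.Quotient.mk m (algebraMap k A c))) (n : ℕ)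
    (G : R →ₐ[k] A ⧸ m ^ (n + 2)) (h₂ : Function.Surjective
      ((Ideal.Quotient.factorPow m (show 2 ≤ n + 2 by omega)).comp G.toRingHom)) :
    Function.Surjective G ∧ ∀ z ∈ IsLocalRing.maximalIdeal R ^ (n + 2), G z = 0 := by
  have := isLocalRing_quot_pow m (n + 1)
  let mR := IsLocalRing.maximalIdeal R
  let mB := m.map (Ideal.Quotient.mk (m ^ (n + 2)))
  have hmB : mB = IsLocalRing.maximalIdeal (A ⧸ m ^ (n + 1 + 1)) := map_mk_eq_maximal m (n + 1)
  have hnil : mB ^ (n + 2) = ⊥ := by rw [← Ideal.map_pow, Ideal.map_quotient_self]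
  -- the map is local
  let ρ : R →+* IsLocalRing.ResidueField (A ⧸ m ^ (n + 1 + 1)) := (IsLocalRing.residue _).comp G.toRingHom
  have hρ : Function.Surjective ρ := fun y => by
    obtain ⟨c, hc⟩ := residue_surjective_quot m hs (n + 1) y
    refine ⟨algebraMap k R c, ?_⟩
    show IsLocalRing.residue _ (G (algebraMap k R c)) = y
    rw [AlgHom.commutes]; exact hc
  have hmax : RingHom.ker ρ = mR := IsLocalRing.eq_maximalIdeal (RingHom.ker_isMaximal_of_surjective ρ hρ)
  have hloc : ∀ z ∈ mR, G z ∈ mB := fun z hz => by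
    rw [hmB]
    exact Ideal.Quotient.eq_zero_iff_mem.1 (RingHom.mem_ker.1 (hmax.symm ▸ hz : z ∈ RingHom.ker ρ))
  have hconst : ∀ b, ∃ c : k, b - algebraMap k (A ⧸ m ^ (n + 2)) c ∈ mB := fun b => by
    obtain ⟨c, hc⟩ := residue_surjective_quot m hs (n + 1) (IsLocalRing.residue _ b)
    exact ⟨c, hmB ▸ Ideal.Quotient.eq.1 hc.symm⟩
  -- the maximal ideal is generated by the image
  have hspan : Ideal.span (G '' (mR : Set R)) ≤ mB := Ideal.span_le.2 (by rintro _ ⟨z, hz, rfl⟩; exact hloc z hz)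
  have h1 : mB ≤ Ideal.span (G '' (mR : Set R)) ⊔ mB ^ 2 := fun b hb => by
    obtain ⟨r, hr⟩ := h₂ (Ideal.Quotient.factorPow m (show 2 ≤ n + 2 by omega) b)
    have hdiff : b - G r ∈ mB ^ 2 := by
      have e0 : Ideal.Quotient.factorPow m (show 2 ≤ n + 2 by omega) (b - G r) = 0 := by
        rw [map_sub, sub_eq_zero]; exact hr.symm
      obtain ⟨a, ha⟩ := Ideal.Quotient.mk_surjective (b - G r)
      rw [← ha] at e0 ⊢
      rw [← Ideal.map_pow]
      exact Ideal.mem_map_of_mem _ (Ideal.Quotient.eq_zero_iff_mem.1 (show Ideal.Quotient.mk (m ^ 2) a = 0 from e0))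
    have hrm : r ∈ mR := by
      rw [← hmax, RingHom.mem_ker]
      refine Ideal.Quotient.eq_zero_iff_mem.2 ?_
      rw [← hmB]
      simpa using sub_mem hb (Ideal.pow_le_self two_ne_zero hdiff)
    exact Submodule.mem_sup.2 ⟨G r, Ideal.subset_span ⟨r, hrm, rfl⟩, _, hdiff, add_sub_cancel _ _⟩
  have hgen : mB ≤ Ideal.span (G '' (mR : Set R)) := by
    refine (le_span_sup_pow hspan h1 (n + 1)).trans (sup_le le_rfl ?_)
    rw [hnil]; exact bot_le
  have happ : ∀ i, ∀ b, ∃ r, b - G r ∈ mB ^ i := by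
    intro i
    induction i with
    | zero => exact fun b => ⟨0, by simp⟩
    | succ i ih =>
      intro b
      obtain ⟨c, hc⟩ := hconst b
      have key : ∀ t ∈ Ideal.span (G '' (mR : Set R)), t ∈ mB ∧ ∃ r, t - G r ∈ mB ^ (i + 1) := fun t ht => by
        induction ht using Submodule.span_induction with
        | mem x hx =>
          obtain ⟨z, hz, rfl⟩ := hx
          exact ⟨hloc z hz, z, by simp⟩
        | zero => exact ⟨zero_mem _, 0, by simp⟩
        | add x y _ _ hx hy =>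
          obtain ⟨hxm, r, hr⟩ := hx
          obtain ⟨hym, r', hr'⟩ := hy
          exact ⟨add_mem hxm hym, r + r', by rw [map_add, add_sub_add_comm]; exact add_mem hr hr'⟩
        | smul u x _ hx =>
          obtain ⟨hxm, r, hr⟩ := hx
          obtain ⟨r', hr'⟩ := ih u
          refine ⟨Ideal.mul_mem_left _ _ hxm, r' * r, ?_⟩
          rw [smul_eq_mul, map_mul, show u * x - G r' * G r = (u - G r') * x + G r' * (x - G r) by ring]
          exact add_mem (pow_succ mB i ▸ Ideal.mul_mem_mul hr' hxm) (Ideal.mul_mem_left _ _ hr)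
      obtain ⟨-, r, hr⟩ := key _ (hgen hc)
      exact ⟨algebraMap k R c + r, by rw [map_add, AlgHom.commutes, ← sub_sub]; exact hr⟩
  refine ⟨fun b => ?_, fun z hz => ?_⟩
  · obtain ⟨r, hr⟩ := happ (n + 2) b
    rw [hnil, Ideal.mem_bot, sub_eq_zero] at hr
    exact ⟨r, hr.symm⟩
  · have h3 : Ideal.map G mR ≤ mB := Ideal.map_le_iff_le_comap.2 hloc
    have h4 := Ideal.pow_right_mono h3 (n + 2) ((Ideal.map_pow G mR (n + 2)).le (Ideal.mem_map_of_mem G hz))
    rwa [hnil, Ideal.mem_bot] at h4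

set_option maxHeartbeats 1000000 in
theorem exists_algebraization [IsAlgClosed k] (F : CommAlgCat.{u} k ⥤ Type u)
    (hF : ∀ (J : Type u) [SmallCategory J] [IsFiltered J], PreservesColimitsOfShape J F)
    (R : Type u) [CommRing R] [Algebra k R] [IsLocalRing R] [IsNoetherianRing R]
    [IsAdicComplete (IsLocalRing.maximalIdeal R) R]
    (hres : Function.Surjective (fun c : k => IsLocalRing.residue R (algebraMap k R c)))
    (ξ : F.obj (CommAlgCat.of k R))
    (hvers : ∀ (B B₀ : Type u) [CommRing B] [Algebra k B] [IsLocalRing B] [IsArtinianRing B]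
        [CommRing B₀] [Algebra k B₀] [IsLocalRing B₀] [IsArtinianRing B₀],
        Function.Surjective (fun c : k => IsLocalRing.residue B (algebraMap k B c)) →
        ∀ (π : B →ₐ[k] B₀), Function.Surjective π →
          ∀ (g₀ : R →ₐ[k] B₀) (y : F.obj (CommAlgCat.of k B)),
            F.map (CommAlgCat.ofHom π) y = F.map (CommAlgCat.ofHom g₀) ξ →
              ∃ g : R →ₐ[k] B, π.comp g = g₀ ∧ F.map (CommAlgCat.ofHom g) ξ = y) :
    ∃ (A : Type u) (_ : CommRing A) (_ : Algebra k A) (_ : Algebra.FiniteType k A)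
      (m : Ideal A) (_ : m.IsMaximal)
      (_ : Function.Surjective (fun c : k => Ideal.Quotient.mk m (algebraMap k A c)))
      (η : F.obj (CommAlgCat.of k A))
      (α : R ≃+* AdicCompletion m A),
      (∀ c : k, α (algebraMap k R c) = algebraMap A (AdicCompletion m A) (algebraMap k A c)) ∧
      ∀ (n : ℕ) (ψ : R →ₐ[k] A ⧸ m ^ (n + 1)),
        ψ.toRingHom = (AdicCompletion.evalₐ m (n + 1) :
            AdicCompletion m A →ₐ[A] A ⧸ m ^ (n + 1)).toRingHom.comp α.toRingHom →
          F.map (CommAlgCat.ofHom ψ) ξ = F.map (CommAlgCat.ofHom (Ideal.Quotient.mkₐ k (m ^ (n + 1)))) η := by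
  classical
  obtain ⟨A, _, _, hA, m, hm, hs, η, φ, hη, hdim, -⟩ := exists_model F hF R hres ξ 1
  let mR := IsLocalRing.maximalIdeal R
  have hloc : ∀ n, IsLocalRing (A ⧸ m ^ (n + 1)) := fun n => isLocalRing_quot_pow m n
  have hart : ∀ n, IsArtinianRing (A ⧸ m ^ n) := fun n => by
    have := (hdim n).2.1
    exact IsArtinianRing.of_finite k _
  let π : ∀ {i j : ℕ}, i ≤ j → (A ⧸ m ^ j) →ₐ[k] (A ⧸ m ^ i) := fun h =>
    { Ideal.Quotient.factorPow m h with commutes' := fun _ => rfl }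
  have hπmk : ∀ {i j : ℕ} (h : i ≤ j) a, π h (Ideal.Quotient.mk (m ^ j) a) = Ideal.Quotient.mk (m ^ i) a :=
    fun _ _ => rfl
  let η' : ∀ i, F.obj (CommAlgCat.of k (A ⧸ m ^ i)) := fun i =>
    F.map (CommAlgCat.ofHom (Ideal.Quotient.mkₐ k (m ^ i))) η
  have hη' : ∀ {i j : ℕ} (h : i ≤ j), F.map (CommAlgCat.ofHom (π h)) (η' j) = η' i := fun h => by
    simp only [η']
    rw [← FunctorToTypes.map_comp_apply]
    rfl
  have step : ∀ n (G : R →ₐ[k] A ⧸ m ^ (n + 2)), F.map (CommAlgCat.ofHom G) ξ = η' (n + 2) →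
      ∃ G' : R →ₐ[k] A ⧸ m ^ (n + 3), F.map (CommAlgCat.ofHom G') ξ = η' (n + 3) ∧
        (π (Nat.le_succ (n + 2))).comp G' = G := fun n G hG => by
    have := hloc (n + 1)
    have := hloc (n + 2)
    have := hart (n + 2)
    have := hart (n + 3)
    obtain ⟨g, hg₁, hg₂⟩ := hvers (A ⧸ m ^ (n + 3)) (A ⧸ m ^ (n + 2)) (residue_surjective_quot m hs (n + 2))
      (π (Nat.le_succ (n + 2))) (fun y => by
        obtain ⟨a, rfl⟩ := Ideal.Quotient.mk_surjective y
        exact ⟨Ideal.Quotient.mk _ a, hπmk _ a⟩) G (η' (n + 3)) (by rw [hG, hη'])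
    exact ⟨g, hg₂, hg₁⟩
  choose nx hnx₁ hnx₂ using step
  let S : (n : ℕ) → {G : R →ₐ[k] A ⧸ m ^ (n + 2) // F.map (CommAlgCat.ofHom G) ξ = η' (n + 2)} := fun n =>
    Nat.rec ⟨φ.toAlgHom.comp (Ideal.Quotient.mkₐ k (mR ^ 2)), hη⟩
      (fun n G => ⟨nx n G.1 G.2, hnx₁ n G.1 G.2⟩) n
  have hS : ∀ n, (π (Nat.le_succ (n + 2))).comp (S (n + 1)).1 = (S n).1 := fun n => hnx₂ n (S n).1 (S n).2
  have hππ : ∀ {i j l : ℕ} (h : i ≤ j) (h' : j ≤ l) y, π h (π h' y) = π (h.trans h') y := fun h h' y => by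
    obtain ⟨a, rfl⟩ := Ideal.Quotient.mk_surjective y
    rfl
  have hcompat : ∀ {i j : ℕ} (h : i ≤ j) r, π (Nat.add_le_add_right h 2) ((S j).1 r) = (S i).1 r := by
    intro i j h
    induction h with
    | refl =>
      intro r
      obtain ⟨a, ha⟩ := Ideal.Quotient.mk_surjective ((S i).1 r)
      rw [← ha]; rfl
    | @step j h ih =>
      intro r
      rw [← ih r, ← hS j, AlgHom.comp_apply, hππ]
  -- bijectivity on truncations
  have hG : ∀ n, Function.Surjective (S n).1 ∧ ∀ z, (S n).1 z = 0 ↔ z ∈ mR ^ (n + 2) := fun n => by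
    obtain ⟨hsurj, hzero⟩ := surjective_of_first_order hs n (S n).1 (fun y => by
      obtain ⟨x, hx⟩ := φ.surjective y
      obtain ⟨r, rfl⟩ := Ideal.Quotient.mk_surjective x
      exact ⟨r, (hcompat (Nat.zero_le n) r).trans hx⟩)
    refine ⟨hsurj, fun z => ⟨fun hz => ?_, hzero z⟩⟩
    let f : (R ⧸ mR ^ (n + 2)) →ₐ[k] A ⧸ m ^ (n + 2) := Ideal.Quotient.liftₐ _ (S n).1 hzero
    have hf : Function.Surjective f.toLinearMap := fun y => by
      obtain ⟨r, rfl⟩ := hsurj y
      exact ⟨Ideal.Quotient.mk _ r, rfl⟩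
    have := (hdim (n + 2)).1
    have := (hdim (n + 2)).2.1
    have hinj := (LinearMap.injective_iff_surjective_of_finrank_eq_finrank (hdim (n + 2)).2.2).2 hf
    rw [← Ideal.Quotient.eq_zero_iff_mem]
    exact hinj (show f (Ideal.Quotient.mk _ z) = f 0 by rw [map_zero]; exact hz)
  -- the map to the completion
  let f : ∀ n, R →+* A ⧸ m ^ n := fun n => ((π (show n ≤ n + 2 by omega)).comp (S n).1).toRingHom
  have hf : ∀ {i j : ℕ} (h : i ≤ j), (Ideal.Quotient.factorPow m h).comp (f j) = f i := fun {i j} h => by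
    refine RingHom.ext fun r => ?_
    show π h (π (show j ≤ j + 2 by omega) ((S j).1 r)) = π (show i ≤ i + 2 by omega) ((S i).1 r)
    rw [← hcompat h r, hππ, hππ]
  let α₀ : R →+* AdicCompletion m A := AdicCompletion.liftRingHom m f hf
  have hα₀ : ∀ n r, AdicCompletion.evalₐ m n (α₀ r) = f n r := fun n r => AdicCompletion.evalₐ_liftRingHom m f hf n r
  have hf2 : ∀ n r, f (n + 2) r = (S n).1 r := fun n r => by
    show π (show n + 2 ≤ n + 2 + 2 by omega) ((S (n + 2)).1 r) = _
    rw [← hcompat (show n ≤ n + 2 by omega) r]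
  have hev : ∀ {i j : ℕ} (h : i ≤ j) (x : AdicCompletion m A),
      π h (AdicCompletion.evalₐ m j x) = AdicCompletion.evalₐ m i x := fun {i j} h x => by
    obtain ⟨y, rfl⟩ := AdicCompletion.mk_surjective m A x
    rw [AdicCompletion.evalₐ_mk, AdicCompletion.evalₐ_mk, hπmk, Ideal.Quotient.eq]
    have := y.2 h
    rw [SModEq.sub_mem, smul_eq_mul, Ideal.mul_top] at this
    rw [← neg_sub]
    exact neg_mem this
  have hbij : Function.Bijective α₀ := by
    refine ⟨(injective_iff_map_eq_zero α₀).2 fun z hz => ?_, fun x => ?_⟩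
    · refine IsHausdorff.haus' (I := mR) z fun n => ?_
      rw [SModEq.sub_mem, sub_zero, smul_eq_mul, Ideal.mul_top]
      refine Ideal.pow_le_pow_right (show n ≤ n + 2 by omega) ((hG n).2 z |>.1 ?_)
      rw [← hf2, ← hα₀, hz, map_zero]
    · choose r hr using fun n => (hG n).1 (AdicCompletion.evalₐ m (n + 2) x)
      have hcau : ∀ {i j : ℕ}, i ≤ j → r i ≡ r j [SMOD (mR ^ i • ⊤ : Submodule R R)] := fun {i j} h => by
        rw [SModEq.sub_mem, smul_eq_mul, Ideal.mul_top]
        refine Ideal.pow_le_pow_right (show i ≤ i + 2 by omega) ((hG i).2 _ |>.1 ?_)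
        rw [map_sub, sub_eq_zero, hr, ← hcompat h, hr, hev]
      obtain ⟨L, hL⟩ := IsPrecomplete.prec' r hcau
      refine ⟨L, AdicCompletion.ext_evalₐ fun n => ?_⟩
      rw [hα₀]
      show π (show n ≤ n + 2 by omega) ((S n).1 L) = _
      have h1 := hL (n + 2)
      rw [SModEq.sub_mem, smul_eq_mul, Ideal.mul_top] at h1
      have h2 : (S n).1 (r (n + 2)) = (S n).1 L := sub_eq_zero.1 (by rw [← map_sub]; exact ((hG n).2 _).2 h1)
      rw [← h2, ← hcompat (show n ≤ n + 2 by omega) (r (n + 2)), hr, hev, hev]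
  have hcomm : ∀ c : k, α₀ (algebraMap k R c) = algebraMap A (AdicCompletion m A) (algebraMap k A c) := fun c =>
    AdicCompletion.ext_evalₐ fun n => by
      rw [hα₀, AlgHom.commutes]
      show π (show n ≤ n + 2 by omega) ((S n).1 (algebraMap k R c)) = _
      rw [AlgHom.commutes, AlgHom.commutes]
      rfl
  refine ⟨A, inferInstance, inferInstance, hA, m, hm, hs, η, RingEquiv.ofBijective α₀ hbij, hcomm, fun n ψ hψ => ?_⟩
  have hψ' : ψ = (π (show n + 1 ≤ n + 1 + 2 by omega)).comp (S (n + 1)).1 := AlgHom.ext fun r => by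
    have := RingHom.congr_fun hψ r
    exact this.trans (hα₀ (n + 1) r)
  show _ = η' (n + 1)
  rw [hψ', ← hη' (show n + 1 ≤ n + 1 + 2 by omega)]
  refine Eq.trans ?_ (congrArg _ (S (n + 1)).2)
  rw [← FunctorToTypes.map_comp_apply]
  rfl

end Groth.Agent.AlgzApx
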